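import Mathlib
import Cfsg.Agent.Lib.FrobRealize.FixedPointFree

/-!
# Groups of order `q (q² - 1) / δ` in which centralisers of `p`-elements are Sylow subgroups

`q = p ^ n`, `δ = gcd (2, q - 1)`. We show that the Sylow `p`-subgroups are abelian trivial-intersection
subgroups with `q + 1` conjugates.
-/

set_option autoImplicit false

open scoped Classical

namespace CfsgLib.ClassSizePSL

variable {Γ : Type*} [Group Γ] [Finite Γ]

/-- The standing hypothesis. -/
structure CentHyp (Γ : Type*) [Group Γ] (p q δ : ℕ) : Prop where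
  hqp : ∃ n, 1 ≤ n ∧ q = p ^ n
  hδ : (p = 2 ∧ δ = 1) ∨ (p ≠ 2 ∧ δ = 2)
  hq : 4 ≤ q
  card : Nat.card Γ * δ = q * (q * q - 1)
  cent : ∀ v : Γ, v ≠ 1 → (∃ k, orderOf v = p ^ k) → Nat.card (Subgroup.centralizer ({v} : Set Γ)) = q

/-- Orbit-stabiliser for conjugation. -/
theorem card_conj (x : Γ) : Nat.card (ConjClasses.mk x).carrier * Nat.card (Subgroup.centralizer ({x} : Set Γ)) =
    Nat.card Γ := by
  have h := Nat.card_congr (MulAction.orbitProdStabilizerEquivGroup (ConjAct Γ) x)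
  rw [Nat.card_prod, ConjAct.orbit_eq_carrier_conjClasses] at h
  rw [Subgroup.nat_card_centralizer_nat_card_stabilizer]
  exact h.trans (Nat.card_congr ConjAct.ofConjAct.toEquiv)

namespace CentHyp

variable {p q δ : ℕ} [hp : Fact p.Prime] (h : CentHyp Γ p q δ)
include h

omit [Finite Γ] in
theorem not_dvd_pred : ¬ p ∣ q * q - 1 := by
  obtain ⟨n, hn, hq⟩ := h.hqp
  intro hd
  have h1 : p ∣ q * q := dvd_mul_of_dvd_left (hq ▸ dvd_pow_self p (by omega)) _
  have h2 := Nat.dvd_sub h1 hd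
  rw [Nat.sub_sub_self (Nat.one_le_iff_ne_zero.2 (Nat.mul_ne_zero (by have := h.hq; omega)
    (by have := h.hq; omega)))] at h2
  exact hp.out.one_lt.ne' (Nat.dvd_one.1 h2)

omit [Finite Γ] in
theorem delta_coprime : ¬ p ∣ δ := by
  rcases h.hδ with ⟨rfl, rfl⟩ | ⟨h2, rfl⟩
  · decide
  · exact fun hd => h2 ((Nat.prime_dvd_prime_iff_eq hp.out Nat.prime_two).1 hd)

theorem sylow_card (P : Sylow p Γ) : Nat.card (P : Subgroup Γ) = q := by
  obtain ⟨n, -, hq⟩ := h.hqp
  have hU : q * q - 1 ≠ 0 := fun e => h.not_dvd_pred (e ▸ dvd_zero p)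
  have hδ0 : δ ≠ 0 := fun e => h.delta_coprime (e ▸ dvd_zero p)
  have hf := congrArg (fun m => m.factorization p) h.card
  simp only [Nat.factorization_mul Nat.card_pos.ne' hδ0, Nat.factorization_mul (by have := h.hq; omega : q ≠ 0) hU,
    Finsupp.add_apply, Nat.factorization_eq_zero_of_not_dvd h.delta_coprime,
    Nat.factorization_eq_zero_of_not_dvd h.not_dvd_pred] at hf
  rw [hq, hp.out.factorization_pow, Finsupp.single_eq_same, add_zero, add_zero] at hf
  rw [P.card_eq_multiplicity, hf, hq]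

omit [Finite Γ] in
theorem two_le_q : 2 ≤ q := by have := h.hq; omega

/-- The centraliser of a nontrivial `p`-element is a Sylow subgroup. -/
theorem cent_sylow {v : Γ} (hv : v ≠ 1) (hk : ∃ k, orderOf v = p ^ k) :
    ∃ P : Sylow p Γ, (P : Subgroup Γ) = Subgroup.centralizer ({v} : Set Γ) := by
  obtain ⟨n, hn, hq⟩ := h.hqp
  obtain ⟨P, hP⟩ := (IsPGroup.of_card (n := n) ((h.cent v hv hk).trans hq) :
    IsPGroup p (Subgroup.centralizer ({v} : Set Γ))).exists_le_sylow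
  refine ⟨P, (Subgroup.eq_of_le_of_card_ge hP ?_).symm⟩
  rw [h.sylow_card P, h.cent v hv hk]

omit h in
omit [Finite Γ] hp in
theorem pElement_of_mem {P : Subgroup Γ} (hP : IsPGroup p P) [Fact p.Prime] {v : Γ} (hv : v ∈ P) :
    ∃ k, orderOf v = p ^ k := by
  obtain ⟨k, hk⟩ := IsPGroup.iff_orderOf.1 hP ⟨v, hv⟩
  exact ⟨k, by rw [← hk, Subgroup.orderOf_mk]⟩

/-- Everything commuting with a nontrivial `p`-element is a `p`-element. -/
theorem pElement_of_commute {v x : Γ} (hv : v ≠ 1) (hk : ∃ k, orderOf v = p ^ k) (hc : Commute x v) :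
    ∃ k, orderOf x = p ^ k := by
  obtain ⟨P, hP⟩ := h.cent_sylow hv hk
  exact pElement_of_mem P.isPGroup' (hP ▸ Subgroup.mem_centralizer_singleton_iff.2 hc : x ∈ (P : Subgroup Γ))

/-- A `p'`-element commuting with a nontrivial `p`-element is trivial. -/
theorem eq_one_of_commute {v x : Γ} (hv : v ≠ 1) (hk : ∃ k, orderOf v = p ^ k) (hc : Commute x v)
    (hx : ¬ p ∣ orderOf x) : x = 1 := by
  obtain ⟨k, hk'⟩ := h.pElement_of_commute hv hk hc
  rcases Nat.eq_zero_or_pos k with rfl | hk0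
  · exact orderOf_eq_one_iff.1 (by rw [hk', pow_zero])
  · exact absurd (hk' ▸ dvd_pow_self p hk0.ne') hx

/-- A Sylow subgroup is the centraliser of each of its nontrivial central elements. -/
theorem cent_eq {P : Sylow p Γ} {w : Γ} (hw : w ∈ P) (hw1 : w ≠ 1)
    (hc : ∀ x ∈ P, Commute x w) : Subgroup.centralizer ({w} : Set Γ) = P := by
  refine (Subgroup.eq_of_le_of_card_ge (fun x hx => Subgroup.mem_centralizer_singleton_iff.2 (hc x hx)) ?_).symm
  rw [h.sylow_card P, h.cent w hw1 (pElement_of_mem P.isPGroup' hw)]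

omit h in
theorem exists_sylow_of_pElement {v : Γ} (hk : ∃ k, orderOf v = p ^ k) : ∃ P : Sylow p Γ, v ∈ P := by
  obtain ⟨k, hk⟩ := hk
  obtain ⟨P, hP⟩ := (IsPGroup.of_card (n := k) (by rw [Nat.card_zpowers, hk]) :
    IsPGroup p (Subgroup.zpowers v)).exists_le_sylow
  exact ⟨P, hP (Subgroup.mem_zpowers v)⟩

/-- The central elements of a Sylow subgroup. -/
def cen (_ : CentHyp Γ p q δ) (P : Sylow p Γ) : Subgroup Γ :=
  (P : Subgroup Γ) ⊓ Subgroup.centralizer ((P : Subgroup Γ) : Set Γ)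

theorem mem_cen {P : Sylow p Γ} {w : Γ} : w ∈ h.cen P ↔ w ∈ P ∧ ∀ x ∈ P, Commute x w :=
  ⟨fun hw => ⟨hw.1, fun x hx => Subgroup.mem_centralizer_iff.1 hw.2 x hx⟩,
    fun hw => ⟨hw.1, Subgroup.mem_centralizer_iff.2 fun x hx => hw.2 x hx⟩⟩

theorem cen_ne_bot (P : Sylow p Γ) : h.cen P ≠ ⊥ := by
  haveI : Nontrivial (P : Subgroup Γ) := Finite.one_lt_card_iff_nontrivial.1 (by
    rw [h.sylow_card P]; have := h.two_le_q; omega)
  haveI := P.isPGroup'.center_nontrivial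
  obtain ⟨⟨z, hz⟩, hz1⟩ := exists_ne (1 : Subgroup.center (P : Subgroup Γ))
  intro e
  refine hz1 (Subtype.ext (Subtype.ext ?_))
  have : (z : Γ) ∈ h.cen P := h.mem_cen.2 ⟨z.2, fun x hx =>
    congrArg Subtype.val (Subgroup.mem_center_iff.1 hz ⟨x, hx⟩)⟩
  rw [e, Subgroup.mem_bot] at this
  exact this

/-- Fusion of central elements takes place in the normaliser. -/
theorem cen_fusion {P : Sylow p Γ} {v w g : Γ} (hv : v ∈ h.cen P) (hw : w ∈ h.cen P) (hv1 : v ≠ 1)
    (hg : g * v * g⁻¹ = w) : g ∈ Subgroup.normalizer ((P : Subgroup Γ) : Set Γ) := by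
  obtain ⟨hv', hvc⟩ := h.mem_cen.1 hv
  obtain ⟨hw', hwc⟩ := h.mem_cen.1 hw
  have hw1 : w ≠ 1 := fun e => hv1 (conj_eq_one_iff.1 (hg.trans e))
  have eP : ∀ x, x ∈ (P : Subgroup Γ) ↔ Commute x w := fun x => by
    rw [← h.cent_eq hw' hw1 hwc]; exact Subgroup.mem_centralizer_singleton_iff
  have eP' : ∀ x, x ∈ (P : Subgroup Γ) ↔ Commute x v := fun x => by
    rw [← h.cent_eq hv' hv1 hvc]; exact Subgroup.mem_centralizer_singleton_iff
  rw [Subgroup.mem_normalizer_iff]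
  intro x
  rw [eP', eP, ← hg]
  exact (Commute.conj_iff g).symm

/-- Every nontrivial `p`-element is conjugate to a central element of a given Sylow subgroup. -/
theorem exists_conj_cen (P : Sylow p Γ) {v : Γ} (hv : v ≠ 1) (hk : ∃ k, orderOf v = p ^ k) :
    ∃ g : Γ, g * v * g⁻¹ ∈ h.cen P := by
  obtain ⟨Pv, hPv⟩ := h.cent_sylow hv hk
  obtain ⟨g, rfl⟩ := MulAction.exists_smul_eq Γ Pv P
  refine ⟨g, h.mem_cen.2 ⟨?_, ?_⟩⟩
  · rw [← SetLike.mem_coe, Sylow.coe_smul] -- `P` is the conjugate of the centraliser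
    refine ⟨v, ?_, rfl⟩
    show v ∈ (Pv : Subgroup Γ)
    rw [hPv]; exact Subgroup.mem_centralizer_singleton_iff.2 rfl
  · intro x hx
    rw [← SetLike.mem_coe, Sylow.coe_smul] at hx
    obtain ⟨y, hy, rfl⟩ := hx
    have hy' : y ∈ Subgroup.centralizer ({v} : Set Γ) := hPv ▸ hy
    exact (Commute.conj_iff _).2 (Subgroup.mem_centralizer_singleton_iff.1 hy')

/-- The classes of nontrivial `p`-elements. -/
def pClasses (_ : CentHyp Γ p q δ) : Set (ConjClasses Γ) :=
  {C | ∃ v : Γ, v ≠ 1 ∧ (∃ k, orderOf v = p ^ k) ∧ ConjClasses.mk v = C}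

theorem card_carrier {v : Γ} (hv : v ≠ 1) (hk : ∃ k, orderOf v = p ^ k) :
    Nat.card (ConjClasses.mk v).carrier * δ = q * q - 1 := by
  have e := card_conj v
  rw [h.cent v hv hk] at e
  have hc := h.card
  rw [← e] at hc
  refine Nat.eq_of_mul_eq_mul_left (show 0 < q by have := h.two_le_q; omega) ?_
  rw [← hc]; ring

theorem card_pClasses : Nat.card h.pClasses = δ := by
  haveI := Fintype.ofFinite (ConjClasses Γ)
  haveI := Fintype.ofFinite Γ
  obtain ⟨P⟩ := (inferInstance : Nonempty (Sylow p Γ))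
  have hcnt : Nat.card Γ = ∑ C : ConjClasses Γ, Nat.card C.carrier := by
    rw [← Nat.card_sigma]
    exact Nat.card_congr ((Equiv.sigmaFiberEquiv (ConjClasses.mk : Γ → ConjClasses Γ)).symm.trans
      (Equiv.sigmaCongrRight fun C => Equiv.subtypeEquivRight fun x => ConjClasses.mem_carrier_iff_mk_eq.symm))
  set S : Finset (ConjClasses Γ) := h.pClasses.toFinset
  have hS : (S.card : ℤ) = Nat.card h.pClasses := by
    rw [Nat.card_coe_set_eq, Set.ncard_eq_toFinset_card']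
  have hδ0 : 0 < δ := Nat.pos_of_ne_zero fun e => h.delta_coprime (e ▸ dvd_zero p)
  -- modulo `q` only the identity and the `p`-classes count
  have hrest : ∀ C : ConjClasses Γ, C ∉ S → C ≠ ConjClasses.mk 1 → q ∣ Nat.card C.carrier := by
    intro C hC hC1
    obtain ⟨x, rfl⟩ := ConjClasses.mk_surjective C
    have hx : ¬ ∃ k, orderOf x = p ^ k := fun hk =>
      hC (Set.mem_toFinset.2 ⟨x, fun e => hC1 (by rw [e]), hk, rfl⟩)
    have e := card_conj x
    have hnd : ¬ p ∣ Nat.card (Subgroup.centralizer ({x} : Set Γ)) := fun hd => by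
      obtain ⟨⟨y, hy⟩, hy'⟩ := exists_prime_orderOf_dvd_card' p hd
      rw [Subgroup.orderOf_mk] at hy'
      exact hx (h.pElement_of_commute (fun e => hp.out.one_lt.ne' (by rw [← hy', e, orderOf_one]))
        ⟨1, by rw [hy', pow_one]⟩ (Subgroup.mem_centralizer_singleton_iff.1 hy).symm)
    obtain ⟨n, -, hq⟩ := h.hqp
    have hqd : q ∣ Nat.card Γ := h.sylow_card P ▸ Subgroup.card_subgroup_dvd_card (P : Subgroup Γ)
    rw [← e, hq] at hqd
    rw [hq]
    exact (((Nat.Prime.coprime_iff_not_dvd hp.out).2 hnd).pow_left n).dvd_of_dvd_mul_right hqd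
  have h1 : Nat.card (ConjClasses.mk (1 : Γ)).carrier = 1 := by
    rw [Nat.card_eq_one_iff_unique]
    refine ⟨⟨fun a b => Subtype.ext ?_⟩, ⟨⟨1, ConjClasses.mem_carrier_mk⟩⟩⟩
    have ha := isConj_one_right.1 (ConjClasses.mk_eq_mk_iff_isConj.1 (ConjClasses.mem_carrier_iff_mk_eq.1 a.2)).symm
    have hb := isConj_one_right.1 (ConjClasses.mk_eq_mk_iff_isConj.1 (ConjClasses.mem_carrier_iff_mk_eq.1 b.2)).symm
    rw [ha, hb]
  have h1S : ConjClasses.mk (1 : Γ) ∉ S := fun hh => by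
    obtain ⟨v, hv, -, e⟩ := Set.mem_toFinset.1 hh
    exact hv (isConj_one_right.1 (ConjClasses.mk_eq_mk_iff_isConj.1 e).symm)
  have hmod : (q : ℤ) ∣ δ * Nat.card Γ - δ - S.card * ((q * q - 1 : ℕ) : ℤ) := by
    have hsplit := Finset.sum_add_sum_compl (insert (ConjClasses.mk (1 : Γ)) S)
      (fun C => (δ : ℤ) * Nat.card C.carrier)
    rw [Finset.sum_insert h1S, h1, ← Finset.mul_sum Finset.univ, ← Nat.cast_sum, ← hcnt] at hsplit
    have hval : ∀ C ∈ S, (δ : ℤ) * Nat.card C.carrier = ((q * q - 1 : ℕ) : ℤ) := fun C hC => by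
      obtain ⟨v, hv, hk, rfl⟩ := Set.mem_toFinset.1 hC
      rw [mul_comm, ← Nat.cast_mul, h.card_carrier hv hk]
    rw [Finset.sum_congr rfl hval, Finset.sum_const, nsmul_eq_mul] at hsplit
    rw [show (δ : ℤ) * Nat.card Γ - δ - S.card * ((q * q - 1 : ℕ) : ℤ) =
      ∑ C ∈ (insert (ConjClasses.mk (1 : Γ)) S)ᶜ, (δ : ℤ) * Nat.card C.carrier by rw [← hsplit]; push_cast; ring]
    refine Finset.dvd_sum fun C hC => dvd_mul_of_dvd_right ?_ _
    rw [Finset.mem_compl, Finset.mem_insert, not_or] at hC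
    exact Int.natCast_dvd_natCast.2 (hrest C hC.2 hC.1)
  have hqq : ((q * q - 1 : ℕ) : ℤ) = q * q - 1 := by
    rw [Nat.cast_sub (Nat.one_le_iff_ne_zero.2 (Nat.mul_ne_zero (by have := h.hq; omega) (by have := h.hq; omega)))]
    push_cast; ring
  rw [mul_comm (δ : ℤ) (Nat.card Γ : ℤ), ← Nat.cast_mul, h.card, Nat.cast_mul, hqq] at hmod
  have hdiv : (q : ℤ) ∣ (S.card : ℤ) - δ := by
    have h2 := Int.dvd_sub hmod
      (dvd_mul_right (q : ℤ) ((q : ℤ) * q - 1 - (S.card : ℤ) * q))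
    convert h2 using 1
    ring
  -- each class meets the centre of `P`
  have hlt : S.card < q := by
    have hzq : Nat.card (h.cen P) ≤ q := (Subgroup.card_le_of_le inf_le_left).trans_eq (h.sylow_card P)
    have hsurj : S ⊆ ((Finset.univ.filter fun w : Γ => w ∈ h.cen P ∧ w ≠ 1).image ConjClasses.mk) := fun C hC => by
      obtain ⟨v, hv, hk, rfl⟩ := Set.mem_toFinset.1 hC
      obtain ⟨g, hg⟩ := h.exists_conj_cen P hv hk
      exact Finset.mem_image.2 ⟨_, Finset.mem_filter.2 ⟨Finset.mem_univ _, hg, fun e => hv (conj_eq_one_iff.1 e)⟩,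
        (ConjClasses.mk_eq_mk_iff_isConj.2 (isConj_iff.2 ⟨g, rfl⟩)).symm⟩
    have h2 := (Finset.card_le_card hsurj).trans Finset.card_image_le
    have h3 : (Finset.univ.filter fun w : Γ => w ∈ h.cen P ∧ w ≠ 1).card < Nat.card (h.cen P) := by
      rw [Nat.card_eq_fintype_card, Fintype.card_subtype]
      refine Finset.card_lt_card ⟨fun w hw => ?_, fun hh => ?_⟩
      · simp only [Finset.mem_filter] at hw ⊢; exact ⟨hw.1, hw.2.1⟩
      · have := hh (show (1 : Γ) ∈ _ from Finset.mem_filter.2 ⟨Finset.mem_univ _, (h.cen P).one_mem⟩)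
        simp at this
    omega
  have hδq : δ < q := by rcases h.hδ with ⟨-, e⟩ | ⟨-, e⟩ <;> (have := h.hq; omega)
  have : (S.card : ℤ) - δ = 0 := Int.eq_zero_of_abs_lt_dvd hdiv (by rw [abs_lt]; omega)
  omega

/-- The action of the normaliser on the centre of a Sylow subgroup has `δ` regular orbits. -/
theorem cen_card (P : Sylow p Γ) :
    δ * (P : Subgroup Γ).relIndex (Subgroup.normalizer ((P : Subgroup Γ) : Set Γ)) + 1 = Nat.card (h.cen P) := by
  haveI := Fintype.ofFinite Γ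
  set N := Subgroup.normalizer ((P : Subgroup Γ) : Set Γ)
  let W := {w : Γ // w ∈ h.cen P ∧ w ≠ 1}
  haveI := Fintype.ofFinite h.pClasses
  let f : W → h.pClasses := fun w =>
    ⟨ConjClasses.mk w.1, w.1, w.2.2, pElement_of_mem P.isPGroup' w.2.1.1, rfl⟩
  have hfib : ∀ C : h.pClasses, Nat.card {w : W // f w = C} = (P : Subgroup Γ).relIndex N := by
    rintro ⟨C, v, hv, hk, rfl⟩
    obtain ⟨g, hg⟩ := h.exists_conj_cen P hv hk
    set w0 := g * v * g⁻¹
    have hw0 : w0 ≠ 1 := fun e => hv (conj_eq_one_iff.1 e)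
    have hmemN : ∀ (x : N) (w : Γ), w ∈ h.cen P → (x : Γ) * w * (x : Γ)⁻¹ ∈ h.cen P := fun x w hw => by
      obtain ⟨hw', hwc⟩ := h.mem_cen.1 hw
      refine h.mem_cen.2 ⟨(Subgroup.mem_normalizer_iff.1 x.2 w).1 hw', fun y hy => ?_⟩
      have := hwc ((x : Γ)⁻¹ * y * x) ((Subgroup.mem_normalizer_iff.1 x.2 _).2 (by
        rwa [show (x : Γ) * ((x : Γ)⁻¹ * y * x) * (x : Γ)⁻¹ = y by group]))
      have h2 := (Commute.conj_iff (x : Γ)).2 this
      rwa [show (x : Γ) * ((x : Γ)⁻¹ * y * x) * (x : Γ)⁻¹ = y by group] at h2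
    rw [Subgroup.relIndex, Subgroup.index]
    symm
    refine Nat.card_congr (Equiv.ofBijective (fun c : ↥N ⧸ (P : Subgroup Γ).subgroupOf N =>
      (⟨⟨(c.out : Γ) * w0 * (c.out : Γ)⁻¹, hmemN c.out w0 hg, fun e => hw0 (conj_eq_one_iff.1 e)⟩,
        Subtype.ext (ConjClasses.mk_eq_mk_iff_isConj.2
          ((isConj_iff.2 ⟨(c.out : Γ) * g, by simp [w0, mul_assoc]⟩).symm))⟩ :
        {w : W // f w = ⟨ConjClasses.mk v, v, hv, hk, rfl⟩})) ⟨fun a b e => ?_, ?_⟩)
    · have e' : (a.out : Γ) * w0 * (a.out : Γ)⁻¹ = (b.out : Γ) * w0 * (b.out : Γ)⁻¹ :=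
        congrArg (fun w => w.1.1) e
      rw [← QuotientGroup.out_eq' a, ← QuotientGroup.out_eq' b, QuotientGroup.eq, Subgroup.mem_subgroupOf]
      obtain ⟨hw', hwc⟩ := h.mem_cen.1 hg
      refine (h.cent_eq hw' hw0 hwc).le (Subgroup.mem_centralizer_singleton_iff.2 ?_)
      push_cast
      calc (a.out : Γ)⁻¹ * b.out * w0 = (a.out : Γ)⁻¹ * ((b.out : Γ) * w0 * (b.out : Γ)⁻¹) * b.out := by group
        _ = w0 * ((a.out : Γ)⁻¹ * b.out) := by rw [← e']; group
    · rintro ⟨⟨w, hw, hw1⟩, hwf⟩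
      have hconj : IsConj w v := ConjClasses.mk_eq_mk_iff_isConj.1 (congrArg Subtype.val hwf)
      obtain ⟨x, hx⟩ := isConj_iff.1 ((isConj_iff.2 ⟨g, rfl⟩ : IsConj v w0).symm.trans hconj.symm)
      have hxN : x ∈ N := h.cen_fusion hg hw hw0 hx
      refine ⟨QuotientGroup.mk ⟨x, hxN⟩, Subtype.ext (Subtype.ext ?_)⟩
      obtain ⟨k, hk'⟩ := QuotientGroup.mk_out_eq_mul ((P : Subgroup Γ).subgroupOf N) ⟨x, hxN⟩
      show ((QuotientGroup.mk (⟨x, hxN⟩ : ↥N) : ↥N ⧸ (P : Subgroup Γ).subgroupOf N).out : Γ) * w0 * _ = w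
      rw [hk', ← hx, Subgroup.coe_mul, mul_inv_rev]
      have hkc : Commute ((k : ↥N) : Γ) w0 := (h.mem_cen.1 hg).2 _ k.2
      calc x * ((k : ↥N) : Γ) * w0 * (((k : ↥N) : Γ)⁻¹ * x⁻¹)
          = x * (((k : ↥N) : Γ) * w0) * ((k : ↥N) : Γ)⁻¹ * x⁻¹ := by group
        _ = x * w0 * x⁻¹ := by rw [hkc.eq]; group
  have hW : Nat.card W = δ * (P : Subgroup Γ).relIndex N := by
    rw [← Nat.card_congr (Equiv.sigmaFiberEquiv f), Nat.card_sigma, Finset.sum_congr rfl fun C _ => hfib C,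
      Finset.sum_const, Finset.card_univ, ← Nat.card_eq_fintype_card, h.card_pClasses, smul_eq_mul]
  rw [← hW, Nat.card_eq_fintype_card, Nat.card_eq_fintype_card, Fintype.card_subtype, Fintype.card_subtype]
  rw [show (Finset.univ.filter fun w : Γ => w ∈ h.cen P) =
    insert 1 (Finset.univ.filter fun w : Γ => w ∈ h.cen P ∧ w ≠ 1) from ?_, Finset.card_insert_of_notMem (by simp)]
  ext w
  simp only [Finset.mem_filter, Finset.mem_univ, true_and, Finset.mem_insert]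
  constructor
  · intro hw; by_cases hw1 : w = 1
    · exact Or.inl hw1
    · exact Or.inr ⟨hw, hw1⟩
  · rintro (rfl | hw)
    · exact one_mem _
    · exact hw.1

end CentHyp

end CfsgLib.ClassSizePSL
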