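import Mathlib
import Cfsg.Agent.Lib.ClassSizePSL.Abelian

/-!
# From the class sizes to the centralisers in the central quotient
-/

set_option autoImplicit false

open scoped Classical

namespace CfsgLib.ClassSizePSL

variable {G : Type*} [Group G] [Finite G]

/-- The class size of an element. -/
noncomputable abbrev sz (g : G) : ℕ := (Subgroup.centralizer ({g} : Set G)).index

/-- The properties of the class sizes of `PSL₂(q)` that are used. -/
structure SizeHyp (G : Type*) [Group G] (p q δ U B b : ℕ) : Prop where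
  hqp : ∃ n, 1 ≤ n ∧ q = p ^ n
  hδ : (p = 2 ∧ δ = 1) ∨ (p ≠ 2 ∧ δ = 2)
  hq : 4 ≤ q
  hU : U * δ = q * q - 1
  hpU : ¬ p ∣ U
  hB : B = q * b
  hb : b < U
  hpb : ¬ p ∣ b
  exU : ∃ g : G, g ∉ Subgroup.center G ∧ sz g = U
  exB : ∃ g : G, g ∉ Subgroup.center G ∧ sz g = B
  cases : ∀ g : G, g ∉ Subgroup.center G → sz g = U ∨ (q ∣ sz g ∧ ¬ U ∣ sz g ∧ ¬ sz g ∣ U)
  Bmin : ∀ g : G, g ∉ Subgroup.center G → sz g ∣ B → sz g = B
  Bmax : ∀ g : G, B ∣ sz g → sz g = B
  avoid : ∀ r : ℕ, r.Prime → r ≠ p → ∃ z : G, z ∉ Subgroup.center G ∧ sz z ≠ U ∧ ¬ r ∣ sz z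

omit [Finite G] in
theorem mem_cent_iff {g x : G} : x ∈ Subgroup.centralizer ({g} : Set G) ↔ Commute x g :=
  Subgroup.mem_centralizer_singleton_iff

theorem cent_eq_of_le {g v : G} (hle : Subgroup.centralizer ({g} : Set G) ≤ Subgroup.centralizer {v})
    (he : sz v = sz g) : Subgroup.centralizer ({g} : Set G) = Subgroup.centralizer {v} := by
  refine Subgroup.eq_of_le_of_card_ge hle ?_
  have h1 := (Subgroup.centralizer ({g} : Set G)).index_mul_card
  have h2 := (Subgroup.centralizer ({v} : Set G)).index_mul_card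
  rw [← h1, show (Subgroup.centralizer ({v} : Set G)).index = sz g from he] at h2
  exact (Nat.eq_of_mul_eq_mul_left (Nat.pos_of_ne_zero Subgroup.index_ne_zero_of_finite) h2).le

omit [Finite G] in
theorem sz_dvd_of_le {g v : G} (hle : Subgroup.centralizer ({g} : Set G) ≤ Subgroup.centralizer {v}) :
    sz v ∣ sz g := Subgroup.index_dvd_of_le hle

omit [Finite G] in
theorem sz_eq_one_iff {g : G} : sz g = 1 ↔ g ∈ Subgroup.center G := by
  rw [sz, Subgroup.index_eq_one, Subgroup.eq_top_iff', Subgroup.mem_center_iff]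
  exact forall_congr' fun x => mem_cent_iff

omit [Finite G] in
theorem cent_le_pow (g : G) (k : ℕ) :
    Subgroup.centralizer ({g} : Set G) ≤ Subgroup.centralizer {g ^ k} := fun _ hx =>
  mem_cent_iff.2 ((mem_cent_iff.1 hx).pow_right k)

/-- A noncentral element has a noncentral primary part. -/
theorem exists_primary {x : G} (hx : x ∉ Subgroup.center G) :
    ∃ (r k : ℕ), r.Prime ∧ x ^ k ∉ Subgroup.center G ∧ ∃ j, orderOf (x ^ k) = r ^ j := by
  set xb : G ⧸ Subgroup.center G := QuotientGroup.mk x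
  obtain ⟨r, hr, hrd⟩ := Nat.exists_prime_and_dvd (n := orderOf xb) fun e => hx
    ((QuotientGroup.eq_one_iff x).1 (orderOf_eq_one_iff.1 e))
  have hdvd : orderOf xb ∣ orderOf x := orderOf_map_dvd (QuotientGroup.mk' (Subgroup.center G)) x
  refine ⟨r, ordCompl[r] (orderOf x), hr, fun hk => ?_, (orderOf x).factorization r, ?_⟩
  · have h1 : orderOf xb ∣ ordCompl[r] (orderOf x) := orderOf_dvd_of_pow_eq_one (by
      rw [← QuotientGroup.mk_pow]; exact (QuotientGroup.eq_one_iff _).2 hk)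
    exact Nat.not_dvd_ordCompl hr (orderOf_pos x).ne' (hrd.trans h1)
  · rw [orderOf_pow_of_dvd (Nat.ordCompl_pos r (orderOf_pos x).ne').ne' (Nat.ordCompl_dvd _ _)]
    exact Nat.div_eq_of_eq_mul_left (Nat.ordCompl_pos r (orderOf_pos x).ne')
      (Nat.ordProj_mul_ordCompl_eq_self _ _).symm

omit [Finite G] in
/-- A product of commuting elements of coprime orders generates both. -/
theorem cent_mul_le {x v : G} (hc : Commute x v) (hco : (orderOf x).Coprime (orderOf v)) :
    Subgroup.centralizer ({x * v} : Set G) ≤ Subgroup.centralizer {x} ⊓ Subgroup.centralizer {v} := by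
  have key : ∀ a b : G, Commute a b → (orderOf a).Coprime (orderOf b) →
      Subgroup.centralizer ({a * b} : Set G) ≤ Subgroup.centralizer {a} := by
    intro a b hab hab'
    obtain ⟨m, hm⟩ := exists_pow_eq_self_of_coprime (n := orderOf b) (x := a) hab'.symm
    have e : (a * b) ^ (orderOf b * m) = a := by
      rw [hab.mul_pow, pow_mul b, pow_orderOf_eq_one, one_pow, mul_one, pow_mul, hm]
    exact fun y hy => mem_cent_iff.2 (e ▸ (mem_cent_iff.1 hy).pow_right _)
  exact le_inf (key x v hc hco) (hc.eq ▸ key v x hc.symm hco.symm)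

/-- An element of maximal class size centralises what its coprime commuting elements centralise. -/
theorem max_le {x v : G} (hmax : ∀ g : G, sz x ∣ sz g → sz g = sz x) (hc : Commute x v)
    (hco : (orderOf x).Coprime (orderOf v)) :
    Subgroup.centralizer ({x} : Set G) ≤ Subgroup.centralizer {v} := by
  have hle := cent_mul_le hc hco
  rw [← cent_eq_of_le (hle.trans inf_le_left) (hmax _ (sz_dvd_of_le (hle.trans inf_le_left))).symm]
  exact hle.trans inf_le_right

/-- The centre relative to a centraliser. -/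
noncomputable abbrev ci (g : G) : ℕ := (Subgroup.center G).relIndex (Subgroup.centralizer ({g} : Set G))

omit [Finite G] in
theorem sz_mul_ci (g : G) : ci g * sz g = (Subgroup.center G).index :=
  Subgroup.relIndex_mul_index (Subgroup.center_le_centralizer _)

theorem exists_of_dvd_ci {g : G} {r : ℕ} [hr : Fact r.Prime] (hd : r ∣ ci g) :
    ∃ v : G, Commute v g ∧ v ∉ Subgroup.center G ∧ ∃ j, orderOf v = r ^ j := by
  haveI : ((Subgroup.center G).subgroupOf (Subgroup.centralizer ({g} : Set G))).Normal := inferInstance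
  obtain ⟨y, hy⟩ := exists_prime_orderOf_dvd_card' r
    (G := ↥(Subgroup.centralizer ({g} : Set G)) ⧸ (Subgroup.center G).subgroupOf _) hd
  obtain ⟨⟨y, hyC⟩, rfl⟩ := QuotientGroup.mk_surjective y
  have hyZ : y ∉ Subgroup.center G := fun hz => hr.out.one_lt.ne' (by
    rw [← hy, (QuotientGroup.eq_one_iff _).2 (Subgroup.mem_subgroupOf.2 hz), orderOf_one])
  have hdvd : r ∣ orderOf y := by
    rw [← hy, ← Subgroup.orderOf_mk (H := Subgroup.centralizer ({g} : Set G)) y hyC]
    exact orderOf_map_dvd (QuotientGroup.mk' _) _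
  refine ⟨y ^ ordCompl[r] (orderOf y), (mem_cent_iff.1 hyC).pow_left _, fun hz => ?_,
    (orderOf y).factorization r, ?_⟩
  · have h2 : r ∣ ordCompl[r] (orderOf y) := by
      refine (hy.symm.dvd).trans (orderOf_dvd_of_pow_eq_one ?_)
      rw [← QuotientGroup.mk_pow]
      exact (QuotientGroup.eq_one_iff _).2 (Subgroup.mem_subgroupOf.2 (by simpa using hz))
    exact Nat.not_dvd_ordCompl hr.out (orderOf_pos y).ne' h2
  · rw [orderOf_pow_of_dvd (Nat.ordCompl_pos r (orderOf_pos y).ne').ne' (Nat.ordCompl_dvd _ _)]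
    exact Nat.div_eq_of_eq_mul_left (Nat.ordCompl_pos r (orderOf_pos y).ne')
      (Nat.ordProj_mul_ordCompl_eq_self _ _).symm

omit [Finite G] in
theorem coprime_of_primary {x v : G} {r s : ℕ} (hr : r.Prime) (hs : s.Prime) (hrs : r ≠ s)
    (hx : ∃ j, orderOf x = r ^ j) (hv : ∃ j, orderOf v = s ^ j) : (orderOf x).Coprime (orderOf v) := by
  obtain ⟨i, hi⟩ := hx; obtain ⟨j, hj⟩ := hv
  rw [hi, hj]; exact ((Nat.coprime_primes hr hs).2 hrs).pow i j

/-- A primary element commuting with a Sylow subgroup for its prime lies in it. -/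
theorem mem_sylow_of_centralizes {r : ℕ} [Fact r.Prime] (R : Sylow r G) {v : G} (hv : ∃ j, orderOf v = r ^ j)
    (hc : ∀ y ∈ (R : Subgroup G), Commute y v) : v ∈ (R : Subgroup G) := by
  obtain ⟨j, hj⟩ := hv
  have hp : IsPGroup r (Subgroup.zpowers v) := IsPGroup.of_card (n := j) (by rw [Nat.card_zpowers, hj])
  have hn : Subgroup.zpowers v ≤ Subgroup.normalizer ((R : Subgroup G) : Set G) :=
    (Subgroup.zpowers_le.2 (Subgroup.mem_centralizer_iff.2 hc)).trans (Subgroup.centralizer_le_normalizer _)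
  exact (R.is_maximal' (R.isPGroup'.to_sup_of_normal_left' hp hn) le_sup_left).le
    (Subgroup.mem_sup_right (Subgroup.mem_zpowers v))

/-- A subgroup of index prime to `r` contains a Sylow `r`-subgroup of the group. -/
theorem exists_sylow_le (r : ℕ) [Fact r.Prime] {H : Subgroup G} (hH : ¬ r ∣ H.index) :
    ∃ R : Sylow r G, (R : Subgroup G) ≤ H := by
  obtain ⟨S⟩ := (inferInstance : Nonempty (Sylow r H))
  obtain ⟨R, hR⟩ := (S.isPGroup'.map H.subtype).exists_le_sylow
  refine ⟨R, (Subgroup.eq_of_le_of_card_ge hR ?_).symm.le.trans (Subgroup.map_subtype_le _)⟩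
  rw [Subgroup.card_subtype, S.card_eq_multiplicity, R.card_eq_multiplicity]
  refine Nat.pow_le_pow_right (Fact.out : r.Prime).pos (le_of_eq ?_)
  rw [← H.index_mul_card, Nat.factorization_mul Subgroup.index_ne_zero_of_finite Nat.card_pos.ne',
    Finsupp.add_apply, Nat.factorization_eq_zero_of_not_dvd hH, zero_add]

namespace SizeHyp

variable {p q δ U B b : ℕ} [hp : Fact p.Prime] (h : SizeHyp G p q δ U B b)
include h

omit [Finite G] in
theorem one_lt_U : 1 < U := by
  have h1 := h.hq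
  have h2 := h.hU
  have h3 : 16 ≤ q * q := Nat.mul_le_mul h1 h1
  rcases h.hδ with ⟨-, e⟩ | ⟨-, e⟩ <;> subst e <;> omega

omit [Finite G] in
theorem p_dvd_q : p ∣ q := by
  obtain ⟨n, hn, hq⟩ := h.hqp
  exact hq ▸ dvd_pow_self p (by omega)

omit [Finite G] in
theorem not_center_of_U {g : G} (hg : sz g = U) : g ∉ Subgroup.center G := fun hz =>
  h.one_lt_U.ne' (hg.symm.trans (sz_eq_one_iff.2 hz))

omit [Finite G] in
theorem U_min {g : G} (hg : g ∉ Subgroup.center G) (hd : sz g ∣ U) : sz g = U :=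
  (h.cases g hg).resolve_right fun hc => hc.2.2 hd

omit [Finite G] in
theorem U_max (g : G) (hd : U ∣ sz g) : sz g = U := by
  by_cases hz : g ∈ Subgroup.center G
  · rw [sz_eq_one_iff.2 hz] at hd
    exact absurd (Nat.dvd_one.1 hd) h.one_lt_U.ne'
  · exact (h.cases g hz).resolve_right fun hc => hc.2.1 hd

omit [Finite G] in
theorem max_of_U {a : G} (hU : sz a = U) : ∀ g : G, sz a ∣ sz g → sz g = sz a := fun g hd => by
  rw [hU] at hd ⊢; exact h.U_max g hd

omit [Finite G] in
theorem max_of_B {a : G} (hB : sz a = B) : ∀ g : G, sz a ∣ sz g → sz g = sz a := fun g hd => by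
  rw [hB] at hd ⊢; exact h.Bmax g hd

/-- The Sylow `p`-subgroup is not central. -/
theorem exists_noncentral_mem (P : Sylow p G) : ∃ u ∈ (P : Subgroup G), u ∉ Subgroup.center G := by
  by_contra hn
  push Not at hn
  obtain ⟨g, -, hg⟩ := h.exB
  have hle : (P : Subgroup G) ≤ Subgroup.centralizer ({g} : Set G) := fun u hu =>
    mem_cent_iff.2 (Subgroup.mem_center_iff.1 (hn u hu) g).symm
  have h1 := Subgroup.index_dvd_of_le hle
  rw [show (Subgroup.centralizer ({g} : Set G)).index = B from hg, h.hB] at h1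
  exact P.not_dvd_index ((dvd_mul_of_dvd_left h.p_dvd_q b).trans h1)

/-- No primary `p'`-element has class size `U`. -/
theorem primary_ne_U {r : ℕ} (hr : r.Prime) (hrp : r ≠ p) {a : G} (ha : ∃ j, orderOf a = r ^ j) :
    sz a ≠ U := by
  haveI := Fact.mk hr
  intro hU
  obtain ⟨P, hP⟩ := exists_sylow_le p (H := Subgroup.centralizer ({a} : Set G))
    (show ¬ p ∣ sz a by rw [hU]; exact h.hpU)
  obtain ⟨u, huP, hu⟩ := h.exists_noncentral_mem P
  have huk : ∃ j, orderOf u = p ^ j := pElementOf P huP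
  have hua : Commute a u := (mem_cent_iff.1 (hP huP)).symm
  have hle := max_le (h.max_of_U hU) hua (coprime_of_primary hr hp.out hrp ha huk)
  have huU : sz u = U := h.U_min hu ((sz_dvd_of_le hle).trans (dvd_of_eq hU))
  have heq := cent_eq_of_le hle (huU.trans hU.symm)
  set C := Subgroup.centralizer ({a} : Set G)
  -- the centraliser is commutative
  have hcen : Subgroup.center C = ⊤ := by
    rw [← Subgroup.index_eq_one]
    by_contra hne
    obtain ⟨s, hs, hsd⟩ := Nat.exists_prime_and_dvd hne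
    haveI := Fact.mk hs
    obtain ⟨S⟩ := (inferInstance : Nonempty (Sylow s C))
    refine S.not_dvd_index (hsd.trans (Subgroup.index_dvd_of_le fun v hv => Subgroup.mem_center_iff.2 fun w => ?_))
    have hvs : ∃ j, orderOf (v : G) = s ^ j := by
      rw [Subgroup.orderOf_coe]
      obtain ⟨j, hj⟩ := IsPGroup.iff_orderOf.1 S.isPGroup' ⟨v, hv⟩
      exact ⟨j, by rw [← hj]; exact Subgroup.orderOf_coe (⟨v, hv⟩ : (S : Subgroup C))⟩
    have hva : Commute (v : G) a := mem_cent_iff.1 v.2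
    have hleC : C ≤ Subgroup.centralizer {(v : G)} := by
      by_cases hsr : s = r
      · have hvu : Commute u (v : G) := (mem_cent_iff.1 (heq.le v.2)).symm
        exact heq.le.trans (max_le (h.max_of_U huU) hvu (coprime_of_primary hp.out hs (hsr ▸ hrp.symm) huk hvs))
      · exact max_le (h.max_of_U hU) hva.symm (coprime_of_primary hr hs (Ne.symm hsr) ha hvs)
    exact Subtype.ext (mem_cent_iff.1 (hleC w.2)).eq
  obtain ⟨z, hz, hzU, hrz⟩ := h.avoid r hr hrp
  obtain ⟨R, hR⟩ := exists_sylow_le r (H := Subgroup.centralizer ({z} : Set G)) hrz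
  obtain ⟨j, hj⟩ := ha
  obtain ⟨R', hR'⟩ := (IsPGroup.of_card (n := j) (by rw [Nat.card_zpowers, hj]) :
    IsPGroup r (Subgroup.zpowers a)).exists_le_sylow
  obtain ⟨g, rfl⟩ := MulAction.exists_smul_eq G R R'
  have ha' : a ∈ ((g • R : Sylow r G) : Set G) := hR' (Subgroup.mem_zpowers a)
  rw [Sylow.coe_smul] at ha'
  obtain ⟨c, hcR, hca⟩ := ha'
  have hca' : g * c * g⁻¹ = a := hca
  have hz' : g * z * g⁻¹ ∈ C := by
    rw [mem_cent_iff, ← hca']
    exact (Commute.conj_iff g).2 (mem_cent_iff.1 (hR hcR)).symm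
  have hle' : C ≤ Subgroup.centralizer ({g * z * g⁻¹} : Set G) := fun w hw => mem_cent_iff.2
    (congrArg Subtype.val (Subgroup.mem_center_iff.1 (hcen.ge (Subgroup.mem_top (⟨_, hz'⟩ : C))) ⟨w, hw⟩))
  have hsz : sz (g * z * g⁻¹) = sz z := by
    rw [sz, show Subgroup.centralizer ({g * z * g⁻¹} : Set G) =
      (Subgroup.centralizer ({z} : Set G)).map (MulAut.conj g).toMonoidHom from ?_,
      Subgroup.index_map_of_bijective (MulAut.conj g).bijective]
    ext w
    rw [Subgroup.mem_map, mem_cent_iff]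
    refine ⟨fun hw => ⟨g⁻¹ * w * g, mem_cent_iff.2 ?_, by simp [mul_assoc]⟩, ?_⟩
    · refine (Commute.conj_iff g).1 ?_
      rwa [show g * (g⁻¹ * w * g) * g⁻¹ = w by group]
    · rintro ⟨w, hw, rfl⟩
      exact (Commute.conj_iff g).2 (mem_cent_iff.1 hw)
  exact hzU (h.U_min hz (by rw [← hsz, ← hU]; exact sz_dvd_of_le hle'))
where
  pElementOf (P : Sylow p G) {u : G} (hu : u ∈ (P : Subgroup G)) : ∃ j, orderOf u = p ^ j := by
    obtain ⟨j, hj⟩ := IsPGroup.iff_orderOf.1 P.isPGroup' ⟨u, hu⟩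
    exact ⟨j, by rw [← hj, Subgroup.orderOf_mk]⟩

/-- Centralisers of elements of size `U` are `p`-groups modulo the centre. -/
theorem ci_U {u : G} (hu : sz u = U) : ∀ r : ℕ, r.Prime → r ∣ ci u → r = p := by
  intro r hr hd
  by_contra hrp
  haveI := Fact.mk hr
  obtain ⟨s, k, hs, hw, hwk⟩ := exists_primary (h.not_center_of_U hu)
  have hwU : sz (u ^ k) = U := h.U_min hw ((sz_dvd_of_le (cent_le_pow u k)).trans (dvd_of_eq hu))
  have hsp : s = p := by_contra fun hne => h.primary_ne_U hs hne hwk hwU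
  subst hsp
  obtain ⟨v, hvc, hvZ, hvk⟩ := exists_of_dvd_ci hd
  have hle := max_le (h.max_of_U hwU) ((hvc.pow_right k).symm) (coprime_of_primary hs hr (Ne.symm hrp) hwk hvk)
  exact h.primary_ne_U hr hrp hvk (h.U_min hvZ ((sz_dvd_of_le hle).trans (dvd_of_eq hwU)))

/-- The order of the central quotient. -/
theorem index_center : (Subgroup.center G).index = q * U := by
  obtain ⟨u, -, hu⟩ := h.exU
  obtain ⟨m, hm⟩ : ∃ m, ci u = p ^ m := ⟨_, Nat.eq_prime_pow_of_unique_prime_dvd
    (Subgroup.index_ne_zero_of_finite) fun {r} hr hd => h.ci_U hu r hr hd⟩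
  have hN : (Subgroup.center G).index = p ^ m * U := by rw [← sz_mul_ci u, hu, hm]
  obtain ⟨y, hyZ, hy⟩ := h.exB
  -- a primary `p'`-element of size `B`
  obtain ⟨r, k, hr, hx, hxk⟩ := exists_primary hyZ
  have hxB : sz (y ^ k) = B := h.Bmin _ hx ((sz_dvd_of_le (cent_le_pow y k)).trans (dvd_of_eq hy))
  obtain ⟨x, r, hr, hrp, hxk, hxB⟩ : ∃ (x : G) (r : ℕ), r.Prime ∧ r ≠ p ∧ (∃ j, orderOf x = r ^ j) ∧ sz x = B := by
    by_cases hrp : r = p
    swap
    · exact ⟨_, r, hr, hrp, hxk, hxB⟩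
    subst hrp
    obtain ⟨s, hs, hsp, hsd⟩ : ∃ s, s.Prime ∧ s ≠ r ∧ s ∣ ci (y ^ k) := by
      by_contra hno
      push Not at hno
      have h1 : ci (y ^ k) = r ^ _ := Nat.eq_prime_pow_of_unique_prime_dvd Subgroup.index_ne_zero_of_finite
        fun {s} hs hd => by_contra fun hne => hno s hs hne hd
      have h2 := sz_mul_ci (y ^ k)
      rw [hxB, hN, h1, h.hB] at h2
      obtain ⟨n, -, hn⟩ := h.hqp
      have h3 : U ∣ b := by
        refine ((Nat.Coprime.pow_right _ ((Nat.Prime.coprime_iff_not_dvd hr).2 h.hpU).symm).dvd_of_dvd_mul_left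
          (m := r ^ ((ci (y ^ k)).primeFactorsList.length + n)) ?_)
        exact ⟨r ^ m, by rw [pow_add, ← hn, mul_assoc]; linear_combination h2⟩
      have h4 := Nat.le_of_dvd (Nat.pos_of_ne_zero fun e => h.hpb (by rw [e]; exact dvd_zero _)) h3
      have := h.hb
      omega
    haveI := Fact.mk hs
    obtain ⟨v, hvc, hvZ, hvk⟩ := exists_of_dvd_ci hsd
    have hle := max_le (h.max_of_B hxB) hvc.symm (coprime_of_primary hr hs hsp.symm hxk hvk)
    exact ⟨v, s, hs, hsp, hvk, h.Bmin v hvZ ((sz_dvd_of_le hle).trans (dvd_of_eq hxB))⟩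
  have hnd : ¬ p ∣ ci x := by
    intro hd
    obtain ⟨v, hvc, hvZ, hvk⟩ := exists_of_dvd_ci hd
    have hle := max_le (h.max_of_B hxB) hvc.symm (coprime_of_primary hr hp.out hrp hxk hvk)
    have heq := cent_eq_of_le hle ((h.Bmin v hvZ ((sz_dvd_of_le hle).trans (dvd_of_eq hxB))).trans hxB.symm)
    -- a central element of size `U` of a Sylow subgroup through `v`
    obtain ⟨u', k', hw, hwk, hwU⟩ : ∃ (u' : G) (k' : ℕ), u' ∉ Subgroup.center G ∧ orderOf u' = p ^ k' ∧ sz u' = U := by
      obtain ⟨s, k', hs, hw, j, hj⟩ := exists_primary (h.not_center_of_U hu)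
      have hwU : sz (u ^ k') = U := h.U_min hw ((sz_dvd_of_le (cent_le_pow u k')).trans (dvd_of_eq hu))
      have hsp : s = p := by_contra fun hne => h.primary_ne_U hs hne ⟨j, hj⟩ hwU
      exact ⟨_, j, hw, hsp ▸ hj, hwU⟩
    obtain ⟨P, hP⟩ := exists_sylow_le p (H := Subgroup.centralizer ({u'} : Set G))
      (show ¬ p ∣ sz u' by rw [hwU]; exact h.hpU)
    have hu'P : u' ∈ (P : Subgroup G) := mem_sylow_of_centralizes P ⟨k', hwk⟩ fun y hy => mem_cent_iff.1 (hP hy)
    obtain ⟨j, hj⟩ := hvk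
    obtain ⟨P', hP'⟩ := (IsPGroup.of_card (n := j) (by rw [Nat.card_zpowers, hj]) :
      IsPGroup p (Subgroup.zpowers v)).exists_le_sylow
    obtain ⟨g, rfl⟩ := MulAction.exists_smul_eq G P P'
    have hv' : v ∈ ((g • P : Sylow p G) : Set G) := hP' (Subgroup.mem_zpowers v)
    rw [Sylow.coe_smul] at hv'
    obtain ⟨c, hcP, hcv⟩ := hv'
    have hcv' : g * c * g⁻¹ = v := hcv
    have hwv : g * u' * g⁻¹ ∈ Subgroup.centralizer ({v} : Set G) := by
      rw [mem_cent_iff, ← hcv']
      exact (Commute.conj_iff g).2 (mem_cent_iff.1 (hP hcP)).symm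
    rw [← heq, mem_cent_iff] at hwv
    -- so `x` commutes with a conjugate of `u'`
    have hxc : Commute (g⁻¹ * x * g) u' := by
      refine (Commute.conj_iff g).1 ?_
      rw [show g * (g⁻¹ * x * g) * g⁻¹ = x by group]
      exact hwv.symm
    have hxk' : ∃ j, orderOf (g⁻¹ * x * g) = r ^ j := by
      obtain ⟨i, hi⟩ := hxk
      refine ⟨i, ?_⟩
      rw [← hi]
      have := orderOf_injective (MulAut.conj g⁻¹).toMonoidHom (MulAut.conj g⁻¹).injective x
      simpa using this
    have hle2 := max_le (h.max_of_U hwU) hxc.symm (coprime_of_primary hp.out hr hrp.symm ⟨k', hwk⟩ hxk')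
    have hnc : g⁻¹ * x * g ∉ Subgroup.center G := fun hz => by
      have hx1 : x ∈ Subgroup.center G := by
        have := Subgroup.Normal.conj_mem inferInstance _ hz g
        rwa [show g * (g⁻¹ * x * g) * g⁻¹ = x by group] at this
      have hBU := hxB
      rw [sz_eq_one_iff.2 hx1, h.hB] at hBU
      have := Nat.eq_one_of_mul_eq_one_right hBU.symm
      have := h.hq
      omega
    exact h.primary_ne_U hr hrp hxk' (h.U_min hnc ((sz_dvd_of_le hle2).trans (dvd_of_eq hwU)))
  have h2 := sz_mul_ci x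
  rw [hxB, hN, h.hB] at h2
  obtain ⟨n, -, hn⟩ := h.hqp
  have hUp : (p ^ m * U).factorization p = m := by
    rw [Nat.factorization_mul (pow_ne_zero _ hp.out.ne_zero) (by have := h.one_lt_U; omega),
      Finsupp.add_apply, hp.out.factorization_pow, Finsupp.single_eq_same,
      Nat.factorization_eq_zero_of_not_dvd h.hpU, add_zero]
  have hbp : (ci x * (q * b)).factorization p = n := by
    have hq0 : q ≠ 0 := by have := h.hq; omega
    have hb0 : b ≠ 0 := fun e => h.hpb (e ▸ dvd_zero p)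
    rw [Nat.factorization_mul (show ci x ≠ 0 from Subgroup.index_ne_zero_of_finite) (Nat.mul_ne_zero hq0 hb0),
      Nat.factorization_mul hq0 hb0, Finsupp.add_apply, Finsupp.add_apply, hn, hp.out.factorization_pow,
      Finsupp.single_eq_same, Nat.factorization_eq_zero_of_not_dvd hnd,
      Nat.factorization_eq_zero_of_not_dvd h.hpb, zero_add, add_zero]
  rw [hN, hn, show m = n from hUp.symm.trans ((congrArg (fun t => t.factorization p) h2.symm).trans hbp)]

/-- Noncentral `p`-elements have class size `U`. -/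
theorem p_size {v : G} (hv : v ∉ Subgroup.center G) (hk : ∃ j, orderOf v = p ^ j) : sz v = U := by
  rcases h.cases v hv with e | ⟨hqd, -, -⟩
  · exact e
  exfalso
  obtain ⟨c, hc⟩ := hqd
  have h2 := sz_mul_ci v
  rw [hc, h.index_center] at h2
  have hd : ci v ∣ U := ⟨c, Nat.eq_of_mul_eq_mul_left (show 0 < q by have := h.hq; omega) (by linear_combination -h2)⟩
  -- but `v` itself gives a `p`-element of the quotient
  have hvd : orderOf (QuotientGroup.mk ⟨v, mem_cent_iff.2 rfl⟩ :
      ↥(Subgroup.centralizer ({v} : Set G)) ⧸ (Subgroup.center G).subgroupOf _) ∣ ci v := orderOf_dvd_natCard _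
  set o := orderOf (QuotientGroup.mk ⟨v, mem_cent_iff.2 rfl⟩ :
      ↥(Subgroup.centralizer ({v} : Set G)) ⧸ (Subgroup.center G).subgroupOf _) with ho
  obtain ⟨j, hj⟩ := hk
  have ho1 : o ∣ p ^ j := by
    rw [← hj, ← Subgroup.orderOf_mk (H := Subgroup.centralizer ({v} : Set G)) v (mem_cent_iff.2 rfl)]
    exact orderOf_map_dvd (QuotientGroup.mk' _) _
  obtain ⟨i, -, hi⟩ := (Nat.dvd_prime_pow hp.out).1 ho1
  rcases Nat.eq_zero_or_pos i with rfl | hi0
  · rw [pow_zero, ho, orderOf_eq_one_iff, QuotientGroup.eq_one_iff] at hi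
    exact hv hi
  · exact h.hpU ((hi ▸ dvd_pow_self p hi0.ne' : p ∣ o).trans (hvd.trans hd))

end SizeHyp

/-- The translations `z` with `X ~ X z` form the image of a homomorphism. -/
theorem exists_twist (X : G) : ∃ M : Subgroup G, M ≤ Subgroup.center G ∧
    (∀ z ∈ M, ∃ g, g * X * g⁻¹ = X * z) ∧
    sz X = (Subgroup.centralizer ({(QuotientGroup.mk X : G ⧸ Subgroup.center G)} :
      Set (G ⧸ Subgroup.center G))).index * Nat.card M := by
  set π := QuotientGroup.mk' (Subgroup.center G)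
  set H := (Subgroup.centralizer ({π X} : Set (G ⧸ Subgroup.center G))).comap π
  have hmem : ∀ g : H, X⁻¹ * ((g : G) * X * (g : G)⁻¹) ∈ Subgroup.center G := fun g => by
    rw [← QuotientGroup.eq_one_iff]
    have hg : π g * π X = π X * π g := Subgroup.mem_centralizer_singleton_iff.1 g.2
    show π (X⁻¹ * ((g : G) * X * (g : G)⁻¹)) = 1
    rw [map_mul, map_mul, map_mul, map_inv, map_inv, hg, mul_inv_cancel_right, inv_mul_cancel]
  let ψ : H →* G :=
    { toFun := fun g => X⁻¹ * ((g : G) * X * (g : G)⁻¹)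
      map_one' := by simp
      map_mul' := fun g g' => by
        have hz := Subgroup.mem_center_iff.1 (hmem g') (g : G)
        rw [Subgroup.coe_mul]
        calc X⁻¹ * ((g : G) * g' * X * ((g : G) * g')⁻¹)
            = X⁻¹ * ((g : G) * X * (X⁻¹ * ((g' : G) * X * (g' : G)⁻¹)) * (g : G)⁻¹) := by group
          _ = X⁻¹ * ((g : G) * X * ((X⁻¹ * ((g' : G) * X * (g' : G)⁻¹)) * (g : G)⁻¹)) := by group
          _ = X⁻¹ * ((g : G) * X * ((g : G)⁻¹ * (X⁻¹ * ((g' : G) * X * (g' : G)⁻¹)))) := by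
              rw [(Commute.inv_left hz : Commute (g : G)⁻¹ _).eq]
          _ = _ := by group }
  have hker : ψ.ker = (Subgroup.centralizer ({X} : Set G)).subgroupOf H := by
    ext g
    rw [MonoidHom.mem_ker, Subgroup.mem_subgroupOf, mem_cent_iff]
    show X⁻¹ * ((g : G) * X * (g : G)⁻¹) = 1 ↔ _
    rw [inv_mul_eq_one, eq_comm, mul_inv_eq_iff_eq_mul]
    rfl
  refine ⟨ψ.range, ?_, ?_, ?_⟩
  · rintro _ ⟨g, rfl⟩; exact hmem g
  · rintro _ ⟨g, rfl⟩
    exact ⟨g, (mul_inv_cancel_left X _).symm⟩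
  · have hCH : Subgroup.centralizer ({X} : Set G) ≤ H := fun g hg => by
      rw [Subgroup.mem_comap, Subgroup.mem_centralizer_singleton_iff, ← map_mul, ← map_mul,
        (mem_cent_iff.1 hg).eq]
    rw [sz, ← Subgroup.relIndex_mul_index hCH, Subgroup.index_comap_of_surjective _ (QuotientGroup.mk'_surjective _),
      mul_comm]
    congr 1
    rw [Subgroup.relIndex, ← hker, Subgroup.index_ker]

namespace SizeHyp

variable {p q δ U B b : ℕ} [hp : Fact p.Prime] (h : SizeHyp G p q δ U B b)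
include h

theorem centHyp : CentHyp (G ⧸ Subgroup.center G) p q δ := by
  refine ⟨h.hqp, h.hδ, h.hq, ?_, fun v hv hk => ?_⟩
  · show (Subgroup.center G).index * δ = _
    rw [h.index_center, mul_assoc, h.hU]
  obtain ⟨X, rfl⟩ := QuotientGroup.mk_surjective v
  obtain ⟨k, hk⟩ := hk
  -- replace `X` by its `p`-part
  set o := orderOf X with ho
  have ho0 : o ≠ 0 := (orderOf_pos X).ne'
  have hcop : (ordCompl[p] o).Coprime (orderOf (QuotientGroup.mk X : G ⧸ Subgroup.center G)) := by
    rw [hk]; exact ((Nat.coprime_ordCompl hp.out ho0).pow_left k).symm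
  obtain ⟨m, hm⟩ := exists_pow_eq_self_of_coprime hcop
  set Y := X ^ (ordCompl[p] o * m)
  have hYX : (QuotientGroup.mk Y : G ⧸ Subgroup.center G) = QuotientGroup.mk X := by
    rw [QuotientGroup.mk_pow, pow_mul, hm]
  have hYk : ∃ j, orderOf Y = p ^ j := by
    have h1 : orderOf Y ∣ p ^ o.factorization p := orderOf_dvd_of_pow_eq_one (by
      rw [← pow_mul, show ordCompl[p] o * m * p ^ o.factorization p = p ^ o.factorization p * ordCompl[p] o * m by ring,
        Nat.ordProj_mul_ordCompl_eq_self, pow_mul, ho, pow_orderOf_eq_one, one_pow])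
    obtain ⟨j, -, hj⟩ := (Nat.dvd_prime_pow hp.out).1 h1
    exact ⟨j, hj⟩
  rw [← hYX] at hv ⊢
  have hYZ : Y ∉ Subgroup.center G := fun hz => hv ((QuotientGroup.eq_one_iff _).2 hz)
  obtain ⟨M, hMZ, hM, hsz⟩ := exists_twist Y
  rw [h.p_size hYZ hYk] at hsz
  have hM1 : Nat.card M = 1 := by
    by_contra hne
    obtain ⟨r, hr, hrd⟩ := Nat.exists_prime_and_dvd hne
    haveI := Fact.mk hr
    obtain ⟨⟨z, hz⟩, hzo⟩ := exists_prime_orderOf_dvd_card' r hrd
    rw [Subgroup.orderOf_mk] at hzo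
    obtain ⟨g, hg⟩ := hM z hz
    obtain ⟨j, hj⟩ := hYk
    have hzp : z ^ (p ^ j) = 1 := by
      have e : (Y * z) ^ (p ^ j) = 1 := by rw [← hg, conj_pow, ← hj, pow_orderOf_eq_one, mul_one, mul_inv_cancel]
      rwa [(show Commute Y z from Subgroup.mem_center_iff.1 (hMZ hz) Y).mul_pow, ← hj, pow_orderOf_eq_one, one_mul,
        hj] at e
    have hrp : r = p := (Nat.prime_dvd_prime_iff_eq hr hp.out).1
      (hr.dvd_of_dvd_pow (hzo ▸ orderOf_dvd_of_pow_eq_one hzp))
    exact h.hpU (hrp ▸ hrd.trans ⟨_, hsz.trans (mul_comm _ _)⟩)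
  rw [hM1, mul_one] at hsz
  have h3 := (Subgroup.centralizer ({(QuotientGroup.mk Y : G ⧸ Subgroup.center G)} :
    Set (G ⧸ Subgroup.center G))).index_mul_card
  rw [← hsz, show Nat.card (G ⧸ Subgroup.center G) = (Subgroup.center G).index from rfl, h.index_center, mul_comm q] at h3
  exact Nat.eq_of_mul_eq_mul_left (by have := h.one_lt_U; omega) h3

/-- An involution of the central quotient with class size `q` gives a class size `q · 2 ^ i`. -/
theorem involution_size (hp2 : p ≠ 2) {x : G ⧸ Subgroup.center G} (hx : orderOf x = 2)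
    (hC : Nat.card (Subgroup.centralizer ({x} : Set (G ⧸ Subgroup.center G))) * q = Nat.card (G ⧸ Subgroup.center G)) :
    ∃ (g : G) (i : ℕ), g ∉ Subgroup.center G ∧ sz g = q * 2 ^ i ∧ 2 ^ (i + 1) ∣ U := by
  obtain ⟨X, rfl⟩ := QuotientGroup.mk_surjective x
  have hXZ : X ∉ Subgroup.center G := fun hz => by
    rw [(QuotientGroup.eq_one_iff X).2 hz, orderOf_one] at hx; omega
  obtain ⟨M, hMZ, hM, hsz⟩ := exists_twist X
  have hidx : (Subgroup.centralizer ({(QuotientGroup.mk X : G ⧸ Subgroup.center G)} :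
      Set (G ⧸ Subgroup.center G))).index = q := by
    have := (Subgroup.centralizer ({(QuotientGroup.mk X : G ⧸ Subgroup.center G)} :
      Set (G ⧸ Subgroup.center G))).index_mul_card
    rw [← hC, mul_comm _ q] at this
    exact Nat.eq_of_mul_eq_mul_right Nat.card_pos this
  rw [hidx] at hsz
  have hX2 : X * X ∈ Subgroup.center G := by
    rw [← QuotientGroup.eq_one_iff, QuotientGroup.mk_mul, ← sq, ← hx, pow_orderOf_eq_one]
  have hexp : IsPGroup 2 M := fun ⟨z, hz⟩ => ⟨1, Subtype.ext (by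
    obtain ⟨g, hg⟩ := hM z hz
    have hc : Commute X z := Subgroup.mem_center_iff.1 (hMZ hz) X
    have e1 : (X * z) * (X * z) = X * X := by
      rw [← hg, show g * X * g⁻¹ * (g * X * g⁻¹) = g * (X * X) * g⁻¹ by group,
        Subgroup.mem_center_iff.1 hX2 g, mul_inv_cancel_right]
    rw [show X * z * (X * z) = X * X * (z * z) by rw [mul_assoc, ← mul_assoc z, ← hc.eq]; group,
      mul_eq_left] at e1
    rw [pow_one, SubgroupClass.coe_pow, OneMemClass.coe_one, sq]
    exact e1)⟩
  haveI : Fact (Nat.Prime 2) := ⟨Nat.prime_two⟩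
  obtain ⟨i, hi⟩ := (IsPGroup.iff_card (p := 2)).1 hexp
  refine ⟨X, i, hXZ, by rw [hsz, hi], ?_⟩
  have h2 := sz_mul_ci X
  rw [hsz, hi, h.index_center] at h2
  have h3 : ci X * 2 ^ i = U := Nat.eq_of_mul_eq_mul_left (show 0 < q by have := h.hq; omega) (by linear_combination h2)
  obtain ⟨c, hc⟩ : 2 ∣ ci X := by
    refine dvd_trans ?_ (orderOf_dvd_natCard (QuotientGroup.mk ⟨X, mem_cent_iff.2 rfl⟩ :
      ↥(Subgroup.centralizer ({X} : Set G)) ⧸ (Subgroup.center G).subgroupOf _))
    refine Eq.dvd (orderOf_eq_prime (p := 2) ?_ ?_).symm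
    · rw [← QuotientGroup.mk_pow, QuotientGroup.eq_one_iff, Subgroup.mem_subgroupOf, SubgroupClass.coe_pow, sq]
      exact hX2
    · intro e
      exact hXZ (Subgroup.mem_subgroupOf.1 ((QuotientGroup.eq_one_iff _).1 e))
  exact ⟨c, by rw [← h3, hc, pow_succ]; ring⟩

end SizeHyp

end CfsgLib.ClassSizePSL
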