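import Mathlib
import Cfsg.Agent.Lib.ClassSizePSL.Abelian

/-!
# The Sylow subgroups are abelian with trivial intersections
-/

set_option autoImplicit false

open scoped Classical

namespace CfsgLib.ClassSizePSL.CentHyp

variable {Γ : Type*} [Group Γ] [Finite Γ] {p q δ : ℕ} [hp : Fact p.Prime] (h : CentHyp Γ p q δ)
include h

/-- A fixed-point-free abelian section forbids a `p`-element normalising a `p'`-group when all
`p`-elements have order `p`. -/
theorem no_frobenius (hexp : ∀ v : Γ, (∃ k, orderOf v = p ^ k) → v ^ p = 1) (V R : Subgroup Γ) (g : Γ)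
    (hVc : IsMulCommutative V) (hV : IsPGroup p V) (hVne : V ≠ ⊥)
    (hR : ∀ r ∈ R, ¬ p ∣ orderOf r) (hRne : R ≠ ⊥)
    (hgR : g ∈ Subgroup.normalizer (R : Set Γ)) (hRV : R ≤ Subgroup.normalizer (V : Set Γ))
    (hgV : g ∈ Subgroup.normalizer (V : Set Γ)) (hg : g ≠ 1) (hk : ∃ k, orderOf g = p ^ k) : False := by
  haveI := Fintype.ofFinite R
  letI : CommGroup V := { (inferInstance : Group V) with mul_comm := hVc.is_comm.comm }
  let N := Subgroup.normalizer (V : Set Γ)
  let a : N → V →* V := fun x =>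
    { toFun := fun v => ⟨(x : Γ) * v * (x : Γ)⁻¹, (Subgroup.mem_normalizer_iff.1 x.2 _).1 v.2⟩
      map_one' := Subtype.ext (by simp)
      map_mul' := fun v w => Subtype.ext (by push_cast; group) }
  have ha : ∀ x y : N, ∀ v, a (x * y) v = a x (a y v) := fun x y v =>
    Subtype.ext (by show _ = _; simp [a, mul_assoc])
  let gN : N := ⟨g, hgV⟩
  let i : R → N := fun r => ⟨r, hRV r.2⟩
  have hgp : g ^ p = 1 := hexp g hk
  -- the norm of `g` vanishes
  have hnorm : ∀ v : V, ∏ j ∈ Finset.range p, a (gN ^ j) v = 1 := by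
    intro v
    have hprod : ∀ m : ℕ, ((v : Γ) * g) ^ m = ((∏ j ∈ Finset.range m, a (gN ^ j) v : V) : Γ) * g ^ m := by
      intro m
      induction m with
      | zero => simp
      | succ m ih =>
        rw [pow_succ, ih, Finset.prod_range_succ, Subgroup.coe_mul]
        simp only [a, gN, MonoidHom.coe_mk, OneHom.coe_mk, SubgroupClass.coe_pow]
        rw [pow_succ]
        group
    have hle : Subgroup.zpowers g ≤ N := Subgroup.zpowers_le.2 hgV
    have hpg : IsPGroup p (Subgroup.zpowers g) := by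
      obtain ⟨k, hk⟩ := hk
      exact IsPGroup.of_card (n := k) (by rw [Nat.card_zpowers, hk])
    have hvg : (v : Γ) * g ∈ V ⊔ Subgroup.zpowers g :=
      mul_mem (Subgroup.mem_sup_left v.2) (Subgroup.mem_sup_right (Subgroup.mem_zpowers g))
    have := hexp _ (pElement_of_mem (hV.to_sup_of_normal_left' hpg hle) hvg)
    rw [hprod p, hgp, mul_one] at this
    exact Subtype.ext this
  -- the norm of `R` vanishes
  have hnormR : ∀ w : V, ∏ r : R, a (i r) w = 1 := by
    intro w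
    obtain ⟨⟨s, hs⟩, hs1⟩ := (Subgroup.ne_bot_iff_exists_ne_one).1 hRne
    set T := ∏ r : R, a (i r) w with hT
    have hfix : a (i ⟨s, hs⟩) T = T := by
      rw [hT, map_prod]
      refine Fintype.prod_equiv (Equiv.mulLeft ⟨s, hs⟩) _ _ fun r => ?_
      rw [← ha]; rfl
    have hcomm : Commute (s : Γ) (T : Γ) := by
      have e : s * (T : Γ) * s⁻¹ = (T : Γ) := congrArg Subtype.val hfix
      exact mul_inv_eq_iff_eq_mul.1 e
    by_contra hne
    exact hs1 (Subtype.ext (h.eq_one_of_commute (fun e => hne (Subtype.ext e)) (pElement_of_mem hV T.2)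
      hcomm (hR s hs)))
  refine hVne ((Subgroup.eq_bot_iff_forall _).2 fun v0 hv0 => ?_)
  let v : V := ⟨v0, hv0⟩
  have h1 : ∀ j ∈ Finset.range p, j ≠ 0 → ∏ r : R, a (i r * gN ^ j * (i r)⁻¹) v = 1 := by
    intro j hj hj0
    have hgj : g ^ j ≠ 1 := fun e => by
      have h1 := orderOf_dvd_of_pow_eq_one e
      rw [orderOf_eq_prime hgp hg] at h1
      have := Nat.le_of_dvd (by omega) h1
      rw [Finset.mem_range] at hj
      omega
    have hkj : ∃ k, orderOf (g ^ j) = p ^ k := by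
      obtain ⟨k, hk⟩ := hk
      obtain ⟨m, -, hm⟩ := (Nat.dvd_prime_pow hp.out).1 (hk ▸ orderOf_pow_dvd (x := g) j)
      exact ⟨m, hm⟩
    have hmem : ∀ r : R, (r : Γ) * (g ^ j * (r : Γ)⁻¹ * (g ^ j)⁻¹) ∈ R := fun r =>
      mul_mem r.2 ((Subgroup.mem_normalizer_iff.1 (pow_mem hgR j) _).1 (inv_mem r.2))
    let σ : R → R := fun r => ⟨_, hmem r⟩
    have hσ : Function.Bijective σ := by
      refine Finite.injective_iff_bijective.1 fun r s e => ?_
      have e' : (r : Γ) * (g ^ j * (r : Γ)⁻¹ * (g ^ j)⁻¹) = (s : Γ) * (g ^ j * (s : Γ)⁻¹ * (g ^ j)⁻¹) :=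
        congrArg Subtype.val e
      have hc : Commute ((s : Γ)⁻¹ * r) (g ^ j) := by
        show (s : Γ)⁻¹ * r * g ^ j = g ^ j * ((s : Γ)⁻¹ * r)
        calc (s : Γ)⁻¹ * r * g ^ j = (s : Γ)⁻¹ * ((r : Γ) * (g ^ j * (r : Γ)⁻¹ * (g ^ j)⁻¹)) * g ^ j * r := by group
          _ = g ^ j * ((s : Γ)⁻¹ * r) := by rw [e']; group
      exact Subtype.ext (inv_mul_eq_one.1 (h.eq_one_of_commute hgj hkj hc (hR _ (mul_mem (inv_mem s.2) r.2)))).symm
    calc ∏ r : R, a (i r * gN ^ j * (i r)⁻¹) v = ∏ r : R, a (i (σ r) * gN ^ j) v :=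
          Finset.prod_congr rfl fun r _ => by
            congr 2
            refine Subtype.ext ?_
            simp only [i, σ, gN, Subgroup.coe_mul, Subgroup.coe_inv, SubgroupClass.coe_pow]
            group
      _ = ∏ r : R, a (i r) (a (gN ^ j) v) := by
          rw [← Function.Bijective.prod_comp hσ (fun r => a (i r) (a (gN ^ j) v))]
          exact Finset.prod_congr rfl fun r _ => ha _ _ v
      _ = 1 := hnormR _
  have h2 : ∏ j ∈ Finset.range p, ∏ r : R, a (i r * gN ^ j * (i r)⁻¹) v = 1 := by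
    rw [Finset.prod_comm]
    refine Finset.prod_eq_one fun r _ => ?_
    simp only [ha]
    rw [← map_prod, hnorm, map_one]
  rw [Finset.prod_eq_single 0 h1 (fun hn => absurd (Finset.mem_range.2 hp.out.pos) hn)] at h2
  have h3 : v ^ Nat.card R = 1 := by
    rw [Nat.card_eq_fintype_card, ← Finset.card_univ, ← Finset.prod_const]
    refine (Finset.prod_congr rfl fun r _ => ?_).trans h2
    rw [pow_zero, mul_one, mul_inv_cancel]
    exact Subtype.ext (by simp [a])
  obtain ⟨k, hk'⟩ := pElement_of_mem hV hv0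
  have hnd : ¬ p ∣ Nat.card R := fun hd => by
    obtain ⟨⟨x, hx⟩, hx'⟩ := exists_prime_orderOf_dvd_card' p hd
    rw [Subgroup.orderOf_mk] at hx'
    exact hR x hx (hx' ▸ dvd_rfl)
  have hdvd : orderOf v0 ∣ Nat.card R := orderOf_dvd_of_pow_eq_one (congrArg Subtype.val h3)
  rw [hk'] at hdvd
  rcases Nat.eq_zero_or_pos k with rfl | hk0
  · exact orderOf_eq_one_iff.1 (by rw [hk', pow_zero])
  · exact absurd ((dvd_pow_self p hk0.ne').trans hdvd) hnd

/-- Distinct Sylow subgroups meet trivially if some Sylow subgroup property holds. -/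
theorem inf_eq_bot_of_comm (hc : ∀ P : Sylow p Γ, IsMulCommutative (P : Subgroup Γ)) (P P' : Sylow p Γ)
    (hne : P ≠ P') : (P : Subgroup Γ) ⊓ P' = ⊥ := by
  refine (Subgroup.eq_bot_iff_forall _).2 fun v hv => by_contra fun hv1 => hne (Sylow.ext ?_)
  rw [← h.cent_eq hv.1 hv1 fun x hx => congrArg Subtype.val ((hc P).is_comm.comm ⟨x, hx⟩ ⟨v, hv.1⟩),
    ← h.cent_eq hv.2 hv1 fun x hx => congrArg Subtype.val ((hc P').is_comm.comm ⟨x, hx⟩ ⟨v, hv.2⟩)]

theorem comm_of_inverted {v : Γ} (hp2 : p ≠ 2) (hv : v ≠ 1) (hk : ∃ k, orderOf v = p ^ k) (hc : IsConj v v⁻¹)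
    (P : Sylow p Γ) : IsMulCommutative (P : Subgroup Γ) := by
  obtain ⟨x, hx⟩ := h.exists_conj_cen P hv hk
  set w := x * v * x⁻¹ with hw
  have hw1 : w ≠ 1 := fun e => hv (conj_eq_one_iff.1 e)
  obtain ⟨g, hg⟩ := isConj_iff.1 (((isConj_iff.2 ⟨x, hw.symm⟩ : IsConj v w).symm.trans hc).trans
    (isConj_iff.2 ⟨x, (by rw [hw]; group : x * v⁻¹ * x⁻¹ = w⁻¹)⟩))
  have hgN : g ∈ Subgroup.normalizer ((P : Subgroup Γ) : Set Γ) := h.cen_fusion hx (inv_mem hx) hw1 hg
  have hodd : ∀ y : Γ, y ∈ P → y * y = 1 → y = 1 := fun y hy hyy => by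
    have h1 : orderOf y ∣ 2 := orderOf_dvd_of_pow_eq_one (by rw [sq, hyy])
    obtain ⟨k, hk⟩ := pElement_of_mem P.isPGroup' hy
    rcases Nat.eq_zero_or_pos k with rfl | hk0
    · exact orderOf_eq_one_iff.1 (by rw [hk, pow_zero])
    · exact absurd ((Nat.prime_dvd_prime_iff_eq hp.out Nat.prime_two).1
        ((hk ▸ dvd_pow_self p hk0.ne' : p ∣ orderOf y).trans h1)) hp2
  have heven : 2 ∣ orderOf g := by
    by_contra hno
    obtain ⟨m, hm⟩ : Odd (orderOf g) := Nat.not_even_iff_odd.1 fun he => hno he.two_dvd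
    have hgg : Commute (g * g) w := by
      show g * g * w = w * (g * g)
      calc g * g * w = g * (g * w * g⁻¹) * g := by group
        _ = g * w⁻¹ * g⁻¹ * (g * g) := by rw [hg]; group
        _ = (g * w * g⁻¹)⁻¹ * (g * g) := by group
        _ = w * (g * g) := by rw [hg, inv_inv]
    have hgc : Commute g w := by
      have : g = (g * g) ^ (m + 1) := by
        rw [← sq, ← pow_mul, show 2 * (m + 1) = orderOf g + 1 by omega, pow_succ, pow_orderOf_eq_one, one_mul]
      rw [this]; exact hgg.pow_left _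
    refine hw1 (hodd w hx.1 ?_)
    have : w⁻¹ = w := by rw [← hg, hgc.eq, mul_inv_cancel_right]
    exact inv_eq_iff_mul_eq_one.1 this
  obtain ⟨m, hm⟩ := heven
  set t := g ^ m
  have hm0 : 0 < m := Nat.pos_of_ne_zero fun e => (orderOf_pos g).ne' (by rw [hm, e, mul_zero])
  have ht : t * t = 1 := by rw [← pow_add, ← two_mul, ← hm, pow_orderOf_eq_one]
  have ht1 : t ≠ 1 := fun e => by
    have := Nat.le_of_dvd hm0 (orderOf_dvd_of_pow_eq_one e)
    omega
  have htN : t ∈ Subgroup.normalizer ((P : Subgroup Γ) : Set Γ) := pow_mem hgN m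
  let φ : (P : Subgroup Γ) →* (P : Subgroup Γ) :=
    { toFun := fun y => ⟨t * y * t⁻¹, (Subgroup.mem_normalizer_iff.1 htN _).1 y.2⟩
      map_one' := Subtype.ext (by simp)
      map_mul' := fun a b => Subtype.ext (by push_cast; group) }
  have hfix : MonoidHom.FixedPointFree φ := fun y hy => by
    by_contra hy1
    refine ht1 (h.eq_one_of_commute (fun e => hy1 (Subtype.ext e)) (pElement_of_mem P.isPGroup' y.2)
      (mul_inv_eq_iff_eq_mul.1 (congrArg Subtype.val hy : t * y * t⁻¹ = y)) fun hd => ?_)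
    exact hp2 ((Nat.prime_dvd_prime_iff_eq hp.out Nat.prime_two).1
      (hd.trans (orderOf_dvd_of_pow_eq_one (by rw [sq, ht]))))
  have hinv : Function.Involutive φ := fun y => Subtype.ext (by
    show t * (t * y * t⁻¹) * t⁻¹ = y
    rw [show t * (t * (y : Γ) * t⁻¹) * t⁻¹ = (t * t) * y * (t * t)⁻¹ by group, ht]; simp)
  exact .of_comm fun a b => hfix.commute_all_of_involutive hinv a b

/-- When no nontrivial `p`-element is conjugate to its inverse, all have order `p`. -/
theorem pow_p_eq_one (hp2 : p ≠ 2) (hreal : ∀ v : Γ, v ≠ 1 → (∃ k, orderOf v = p ^ k) → ¬ IsConj v v⁻¹)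
    (v : Γ) (hk : ∃ k, orderOf v = p ^ k) : v ^ p = 1 := by
  rcases eq_or_ne v 1 with rfl | hv
  · exact one_pow p
  obtain ⟨k, hk'⟩ := hk
  have hk0 : 1 ≤ k := Nat.one_le_iff_ne_zero.2 fun e => hv (orderOf_eq_one_iff.1 (by rw [hk', e, pow_zero]))
  set w := v ^ p ^ (k - 1)
  have hw : orderOf w = p := by
    rw [orderOf_pow_of_dvd (pow_ne_zero _ hp.out.ne_zero) (by rw [hk']; exact pow_dvd_pow p (by omega)), hk',
      Nat.pow_div (by omega) hp.out.pos, show k - (k - 1) = 1 by omega, pow_one]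
  have hw1 : w ≠ 1 := fun e => hp.out.one_lt.ne' (by rw [← hw, e, orderOf_one])
  have hwk : ∃ j, orderOf w = p ^ j := ⟨1, by rw [hw, pow_one]⟩
  have hwk' : ∃ j, orderOf w⁻¹ = p ^ j := ⟨1, by rw [orderOf_inv, hw, pow_one]⟩
  have hsub : ({ConjClasses.mk w, ConjClasses.mk w⁻¹} : Set (ConjClasses Γ)) = h.pClasses := by
    refine Set.eq_of_subset_of_ncard_le ?_ ?_ (Set.toFinite _)
    · rintro C (rfl | rfl)
      · exact ⟨w, hw1, hwk, rfl⟩
      · exact ⟨w⁻¹, inv_ne_one.2 hw1, hwk', rfl⟩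
    · rw [Set.ncard_pair fun e => hreal w hw1 hwk (ConjClasses.mk_eq_mk_iff_isConj.1 e), ← Nat.card_coe_set_eq,
        h.card_pClasses]
      rcases h.hδ with ⟨e, -⟩ | ⟨-, e⟩
      · exact absurd e hp2
      · omega
  have hmem : ConjClasses.mk v ∈ h.pClasses := ⟨v, hv, ⟨k, hk'⟩, rfl⟩
  rw [← hsub] at hmem
  have hord : orderOf v = p := by
    rcases hmem with e | e <;> obtain ⟨c, hc⟩ := isConj_iff.1 (ConjClasses.mk_eq_mk_iff_isConj.1 e).symm <;>
      rw [← hc]
    · exact (orderOf_injective (MulAut.conj c).toMonoidHom (MulAut.conj c).injective w).trans hw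
    · exact (orderOf_injective (MulAut.conj c).toMonoidHom (MulAut.conj c).injective w⁻¹).trans
        (by rw [orderOf_inv, hw])
  rw [← hord]; exact pow_orderOf_eq_one v

omit h in
/-- If no `p`-element of `N` normalises a nontrivial `p'`-subgroup and `N` has odd order with cyclic
Sylow subgroups for the primes other than `p`, the `p`-elements lie in one `p`-subgroup. -/
theorem closed_of_no_frobenius (N : Subgroup Γ)
    (hcyc : ∀ (r : ℕ), r.Prime → r ≠ p → ∀ R : Subgroup Γ, R ≤ N → IsPGroup r R → IsCyclic R)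
    (hno : ∀ (r : ℕ), r.Prime → r ≠ p → ∀ R : Subgroup Γ, R ≤ N → IsPGroup r R → R ≠ ⊥ →
      ∀ g ∈ N, g ∈ Subgroup.normalizer (R : Set Γ) → orderOf g ≠ p) :
    ∀ (n : ℕ) (M : Subgroup Γ), Nat.card M ≤ n → M ≤ N →
      ∃ Y : Subgroup Γ, IsPGroup p Y ∧ ∀ x ∈ M, (∃ k, orderOf x = p ^ k) → x ∈ Y := by
  intro n
  induction n with
  | zero => intro M hM; exact absurd hM (not_le.2 Nat.card_pos)
  | succ n ih =>
    intro M hM hMN
    by_cases hex : ∃ r, r.Prime ∧ r ≠ p ∧ r ∣ Nat.card M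
    swap
    · push Not at hex
      exact ⟨M, IsPGroup.of_card (Nat.eq_prime_pow_of_unique_prime_dvd Nat.card_pos.ne'
        fun {d} hd hdvd => by_contra fun hne => hex d hd hne hdvd), fun x hx _ => hx⟩
    obtain ⟨hr, hrp, hrM⟩ := Nat.find_spec hex
    set r := Nat.find hex with hrdef
    haveI := Fact.mk hr
    obtain ⟨R⟩ := (inferInstance : Nonempty (Sylow r M))
    set R' : Subgroup Γ := (R : Subgroup M).map M.subtype
    have hR'N : R' ≤ N := (Subgroup.map_subtype_le _).trans hMN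
    have hR'p : IsPGroup r R' := R.isPGroup'.map _
    let e : (R : Subgroup M) ≃* R' := Subgroup.equivMapOfInjective _ M.subtype M.subtype_injective
    have hRc : IsCyclic (R : Subgroup M) := by
      haveI := hcyc r hr hrp R' hR'N hR'p
      exact e.isCyclic.2 inferInstance
    have hR'ne : R' ≠ ⊥ := fun e' => by
      have h1 := R.dvd_card_of_dvd_card hrM
      rw [Nat.card_congr e.toEquiv, e', Subgroup.card_bot] at h1
      exact hr.one_lt.ne' (Nat.dvd_one.1 h1)
    have hNR : ¬ p ∣ Nat.card (Subgroup.normalizer ((R : Subgroup M) : Set M)) := fun hd => by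
      obtain ⟨⟨g, hg⟩, hg'⟩ := exists_prime_orderOf_dvd_card' p hd
      rw [Subgroup.orderOf_mk] at hg'
      refine hno r hr hrp R' hR'N hR'p hR'ne g (hMN g.2) ?_ (by rw [Subgroup.orderOf_coe, hg'])
      rw [Subgroup.mem_normalizer_iff]
      intro x
      constructor
      · rintro ⟨y, hy, rfl⟩
        exact ⟨g * y * g⁻¹, (Subgroup.mem_normalizer_iff.1 hg y).1 hy, by simp⟩
      · rintro ⟨y, hy, hyx⟩
        refine ⟨g⁻¹ * y * g, (Subgroup.mem_normalizer_iff.1 hg _).2 (by rwa [show g * (g⁻¹ * y * g) * g⁻¹ = y by group]), ?_⟩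
        simp only [map_mul, map_inv, Subgroup.coe_subtype] at hyx ⊢
        rw [hyx]; group
    have hP : Subgroup.normalizer ((R : Subgroup M) : Set M) ≤ Subgroup.centralizer ((R : Subgroup M) : Set M) := by
      have hker := Subgroup.normalizerMonoidHom_ker (R : Subgroup M)
      set φ := Subgroup.normalizerMonoidHom (R : Subgroup M)
      suffices hone : Nat.card φ.range = 1 by
        intro x hx
        have hx1 : φ ⟨x, hx⟩ = 1 := by
          have := (Subgroup.eq_bot_of_card_eq φ.range hone).le (⟨⟨x, hx⟩, rfl⟩ : φ ⟨x, hx⟩ ∈ φ.range)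
          exact Subgroup.mem_bot.1 this
        exact Subgroup.mem_subgroupOf.1 (hker ▸ MonoidHom.mem_ker.2 hx1)
      haveI := hRc
      by_contra hne
      obtain ⟨s, hs, hsd⟩ := Nat.exists_prime_and_dvd hne
      have hsN : s ∣ Nat.card (Subgroup.normalizer ((R : Subgroup M) : Set M)) :=
        hsd.trans (Subgroup.card_range_dvd φ)
      have hsp : s ≠ p := fun e' => hNR (e' ▸ hsN)
      have hrs : r ≤ s := Nat.find_min' hex ⟨hs, hsp, hsN.trans (Subgroup.card_subgroup_dvd_card _)⟩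
      obtain ⟨j, hj⟩ := IsPGroup.iff_card.1 R.isPGroup'
      have haut : s ∣ Nat.totient (r ^ j) := by
        have := hsd.trans (Subgroup.card_subgroup_dvd_card φ.range)
        rwa [IsCyclic.card_mulAut, hj] at this
      have hj0 : 0 < j := Nat.pos_of_ne_zero fun e' => by
        subst e'; rw [pow_zero, Nat.totient_one] at haut; exact hs.one_lt.ne' (Nat.dvd_one.1 haut)
      rw [Nat.totient_prime_pow hr hj0] at haut
      have hsr : s ≠ r := by
        intro e'
        have hle : (R : Subgroup M).subgroupOf (Subgroup.normalizer ((R : Subgroup M) : Set M)) ≤ φ.ker := by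
          rw [hker]
          intro x hx
          rw [Subgroup.mem_subgroupOf] at hx ⊢
          haveI : IsMulCommutative (R : Subgroup M) := hRc.isMulCommutative
          exact Subgroup.le_centralizer _ hx
        have h1 : Nat.card φ.range ∣ (R : Subgroup M).relIndex (Subgroup.normalizer ((R : Subgroup M) : Set M)) := by
          rw [← Subgroup.index_ker]; exact Subgroup.index_dvd_of_le hle
        exact R.not_dvd_index ((e' ▸ hsd : r ∣ _).trans (h1.trans
          (Subgroup.relIndex_dvd_index_of_le Subgroup.le_normalizer)))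
      rcases (Nat.Prime.dvd_mul hs).1 haut with hd | hd
      · exact hsr ((Nat.prime_dvd_prime_iff_eq hs hr).1 (hs.dvd_of_dvd_pow hd))
      · have := Nat.le_of_dvd (by have := hr.two_le; omega) hd
        omega
    have hcompl := MonoidHom.ker_transferSylow_isComplement' R hP
    set K := (MonoidHom.transferSylow R hP).ker
    have hKlt : Nat.card (K.map M.subtype) < Nat.card M := by
      rw [Subgroup.card_subtype, ← hcompl.card_mul]
      refine lt_mul_of_one_lt_right Nat.card_pos ?_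
      obtain ⟨j, hj⟩ := IsPGroup.iff_card.1 R.isPGroup'
      rw [hj]
      refine Nat.one_lt_pow (fun e' => ?_) hr.one_lt
      subst e'
      exact hr.one_lt.ne' (Nat.dvd_one.1 (by simpa [hj] using R.dvd_card_of_dvd_card hrM))
    obtain ⟨Y, hY, hYmem⟩ := ih (K.map M.subtype) (by omega) ((Subgroup.map_subtype_le _).trans hMN)
    refine ⟨Y, hY, fun x hx hk => hYmem x ⟨⟨x, hx⟩, ?_, rfl⟩ hk⟩ 
    rw [SetLike.mem_coe, MonoidHom.mem_ker]
    obtain ⟨k, hk⟩ := hk
    have h1 : orderOf (MonoidHom.transferSylow R hP ⟨x, hx⟩) ∣ p ^ k :=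
      (orderOf_map_dvd _ _).trans (by rw [Subgroup.orderOf_mk, hk])
    obtain ⟨j, hj⟩ := IsPGroup.iff_orderOf.1 R.isPGroup' (MonoidHom.transferSylow R hP ⟨x, hx⟩)
    rw [hj] at h1
    have hcop : Nat.Coprime (r ^ j) (p ^ k) := ((Nat.coprime_primes hr hp.out).2 hrp).pow j k
    exact orderOf_eq_one_iff.1 (by rw [hj, Nat.Coprime.eq_one_of_dvd hcop h1])

/-- For `p = 2` every nontrivial `2`-element is an involution. -/
theorem mul_self_eq_one (hp2 : p = 2) : ∀ v : Γ, (∃ k, orderOf v = p ^ k) → v * v = 1 := by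
  intro v hk
  rcases eq_or_ne v 1 with rfl | hv
  · simp
  obtain ⟨k, hk'⟩ := hk
  have hk0 : 1 ≤ k := Nat.one_le_iff_ne_zero.2 fun e => hv (orderOf_eq_one_iff.1 (by rw [hk', e, pow_zero]))
  set w := v ^ p ^ (k - 1)
  have hw : orderOf w = p := by
    rw [orderOf_pow_of_dvd (pow_ne_zero _ hp.out.ne_zero) (by rw [hk']; exact pow_dvd_pow p (by omega)), hk',
      Nat.pow_div (by omega) hp.out.pos, show k - (k - 1) = 1 by omega, pow_one]
  haveI : Subsingleton h.pClasses := by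
    refine (Nat.card_eq_one_iff_unique.1 (h.card_pClasses.trans ?_)).1
    rcases h.hδ with ⟨-, e⟩ | ⟨e, -⟩
    · exact e
    · exact absurd hp2 e
  have hw1 : w ≠ 1 := fun e => hp.out.one_lt.ne' (by rw [← hw, e, orderOf_one])
  have e := congrArg Subtype.val (Subsingleton.elim (α := h.pClasses) ⟨_, v, hv, ⟨k, hk'⟩, rfl⟩
    ⟨_, w, hw1, ⟨1, by rw [hw, pow_one]⟩, rfl⟩)
  obtain ⟨c, hc⟩ := isConj_iff.1 (ConjClasses.mk_eq_mk_iff_isConj.1 e).symm
  have hv2 : orderOf v = 2 := by
    rw [← hc, ← hp2, ← hw]; exact orderOf_injective (MulAut.conj c).toMonoidHom (MulAut.conj c).injective w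
  rw [← sq, ← hv2, pow_orderOf_eq_one]

/-- The Sylow subgroups are abelian. -/
theorem comm (P : Sylow p Γ) : IsMulCommutative (P : Subgroup Γ) := by
  haveI := Fintype.ofFinite Γ
  by_cases hp2 : p = 2
  · have h1 := h.mul_self_eq_one hp2
    have hsq : ∀ a : (P : Subgroup Γ), a * a = 1 := fun a =>
      Subtype.ext (h1 a (pElement_of_mem P.isPGroup' a.2))
    exact .of_comm fun a b => by
      have h2 := hsq (a * b)
      calc a * b = (a * b)⁻¹ := eq_inv_of_mul_eq_one_left h2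
        _ = b⁻¹ * a⁻¹ := mul_inv_rev a b
        _ = b * a := by rw [← eq_inv_of_mul_eq_one_left (hsq a), ← eq_inv_of_mul_eq_one_left (hsq b)]
  by_cases hreal : ∃ v : Γ, v ≠ 1 ∧ (∃ k, orderOf v = p ^ k) ∧ IsConj v v⁻¹
  · obtain ⟨v, hv, hk, hc⟩ := hreal
    exact h.comm_of_inverted hp2 hv hk hc P
  push Not at hreal
  have hexp : ∀ v : Γ, (∃ k, orderOf v = p ^ k) → v ^ p = 1 :=
    h.pow_p_eq_one hp2 fun v hv hk => hreal v hv hk
  -- a nontrivial intersection gives a contradiction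
  suffices hTI : ∀ P P' : Sylow p Γ, P ≠ P' → (P : Subgroup Γ) ⊓ P' = ⊥ by
    refine .of_comm fun a b => Subtype.ext ?_
    rcases eq_or_ne (a : Γ) 1 with e | ha
    · simp [e]
    obtain ⟨Pa, hPa⟩ := h.cent_sylow ha (pElement_of_mem P.isPGroup' a.2)
    have haPa : (a : Γ) ∈ (Pa : Subgroup Γ) := hPa ▸ Subgroup.mem_centralizer_singleton_iff.2 rfl
    have : Pa = P := by
      by_contra hne
      exact ha ((Subgroup.eq_bot_iff_forall _).1 (hTI Pa P hne) a ⟨haPa, a.2⟩)
    have hb : (b : Γ) ∈ Subgroup.centralizer ({(a : Γ)} : Set Γ) := hPa ▸ (this.symm ▸ b.2 : (b : Γ) ∈ (Pa : Subgroup Γ))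
    exact (Subgroup.mem_centralizer_singleton_iff.1 hb).symm
  by_contra hTI
  push Not at hTI
  obtain ⟨P1, P2, hne12, hint⟩ := hTI
  obtain ⟨⟨Q, Q'⟩, hQ, hmax⟩ := Finset.exists_max_image
    (Finset.univ.filter fun x : Sylow p Γ × Sylow p Γ => x.1 ≠ x.2 ∧ (x.1 : Subgroup Γ) ⊓ x.2 ≠ ⊥)
    (fun x => Nat.card ↥((x.1 : Subgroup Γ) ⊓ x.2)) ⟨(P1, P2), by simp [hne12, hint]⟩
  obtain ⟨hQne, hD⟩ := (Finset.mem_filter.1 hQ).2
  set D := (Q : Subgroup Γ) ⊓ (Q' : Subgroup Γ) with hDdef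
  set N := Subgroup.normalizer (D : Set Γ)
  have hDp : IsPGroup p D := Q.isPGroup'.to_le inf_le_left
  let V : Subgroup Γ := D ⊓ Subgroup.centralizer (D : Set Γ)
  have hVc : IsMulCommutative V := .of_comm fun a b =>
    Subtype.ext (Subgroup.mem_centralizer_iff.1 b.2.2 a a.2.1)
  have hVp : IsPGroup p V := hDp.to_le inf_le_left
  have hVne : V ≠ ⊥ := by
    haveI : Nontrivial D := (Subgroup.nontrivial_iff_ne_bot D).2 hD
    haveI := hDp.center_nontrivial
    obtain ⟨⟨z, hz⟩, hz1⟩ := exists_ne (1 : Subgroup.center D)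
    intro e
    refine hz1 (Subtype.ext (Subtype.ext ?_))
    have : (z : Γ) ∈ V := ⟨z.2, Subgroup.mem_centralizer_iff.2 fun x hx =>
      congrArg Subtype.val (Subgroup.mem_center_iff.1 hz ⟨x, hx⟩)⟩
    rw [e, Subgroup.mem_bot] at this
    exact this
  have hNV : N ≤ Subgroup.normalizer (V : Set Γ) := by
    intro x hx
    rw [Subgroup.mem_normalizer_iff]
    suffices key : ∀ y ∈ N, ∀ v ∈ V, y * v * y⁻¹ ∈ V by
      intro v
      refine ⟨key x hx v, fun hv => ?_⟩
      have := key x⁻¹ (inv_mem hx) _ hv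
      rwa [show x⁻¹ * (x * v * x⁻¹) * x⁻¹⁻¹ = v by group] at this
    intro y hy v hv
    refine ⟨(Subgroup.mem_normalizer_iff.1 hy v).1 hv.1, Subgroup.mem_centralizer_iff.2 fun d hd => ?_⟩
    have hd' : y⁻¹ * d * y ∈ D := (Subgroup.mem_normalizer_iff.1 hy _).2 (by
      rwa [show y * (y⁻¹ * d * y) * y⁻¹ = d by group])
    have := Subgroup.mem_centralizer_iff.1 hv.2 _ hd'
    calc d * (y * v * y⁻¹) = y * (y⁻¹ * d * y * v) * y⁻¹ := by group
      _ = y * (v * (y⁻¹ * d * y)) * y⁻¹ := by rw [this]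
      _ = y * v * y⁻¹ * d := by group
  have hfpf : ∀ a : Γ, a ≠ 1 → ¬ p ∣ orderOf a → V ⊓ Subgroup.centralizer ({a} : Set Γ) = ⊥ := fun a ha hpa => by
    refine (Subgroup.eq_bot_iff_forall _).2 fun v hv => by_contra fun hv1 => ha ?_
    exact h.eq_one_of_commute hv1 (pElement_of_mem hVp hv.1)
      (Subgroup.mem_centralizer_singleton_iff.1 hv.2).symm hpa
  have hnd : ∀ {r : ℕ}, r.Prime → r ≠ p → ∀ {R : Subgroup Γ}, IsPGroup r R → ∀ a ∈ R, ¬ p ∣ orderOf a := by
    intro r hr hrp R hR a ha hd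
    haveI := Fact.mk hr
    obtain ⟨k, hk⟩ := pElement_of_mem (p := r) hR ha
    exact hrp ((Nat.prime_dvd_prime_iff_eq hp.out hr).1 (hp.out.dvd_of_dvd_pow (hk ▸ hd))).symm
  have hodd : ¬ 2 ∣ Nat.card N := fun hd => by
    obtain ⟨⟨t, htN⟩, ht'⟩ := exists_prime_orderOf_dvd_card' 2 hd
    rw [Subgroup.orderOf_mk] at ht'
    have ht1 : t ≠ 1 := fun e => by rw [e, orderOf_one] at ht'; omega
    have hpt : ¬ p ∣ orderOf t := fun hd2 => hp2 ((Nat.prime_dvd_prime_iff_eq hp.out Nat.prime_two).1 (ht' ▸ hd2))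
    have htt : t * t = 1 := by rw [← sq, ← ht', pow_orderOf_eq_one]
    let φ : V →* V :=
      { toFun := fun y => ⟨t * y * t⁻¹, (Subgroup.mem_normalizer_iff.1 (hNV htN) _).1 y.2⟩
        map_one' := Subtype.ext (by simp)
        map_mul' := fun a b => Subtype.ext (by push_cast; group) }
    have hfix : MonoidHom.FixedPointFree φ := fun y hy => Subtype.ext
      ((Subgroup.eq_bot_iff_forall _).1 (hfpf t ht1 hpt) y ⟨y.2, Subgroup.mem_centralizer_singleton_iff.2
        (mul_inv_eq_iff_eq_mul.1 (congrArg Subtype.val hy : t * y * t⁻¹ = y)).symm⟩)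
    have hinv : Function.Involutive φ := fun y => Subtype.ext (by
      show t * (t * y * t⁻¹) * t⁻¹ = y
      rw [show t * (t * (y : Γ) * t⁻¹) * t⁻¹ = (t * t) * y * (t * t)⁻¹ by group, htt]; simp)
    obtain ⟨⟨v, hv⟩, hv1⟩ := (Subgroup.ne_bot_iff_exists_ne_one).1 hVne
    have := congrArg Subtype.val (congrFun (hfix.coe_eq_inv_of_involutive hinv) ⟨v, hv⟩)
    exact hreal v (fun e => hv1 (Subtype.ext e)) (pElement_of_mem hVp hv) (isConj_iff.2 ⟨t, this⟩)
  have hcyc : ∀ (r : ℕ), r.Prime → r ≠ p → ∀ R : Subgroup Γ, R ≤ N → IsPGroup r R → IsCyclic R := by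
    intro r hr hrp R hRN hR
    haveI := Fact.mk hr
    obtain ⟨S⟩ := (inferInstance : Nonempty (Sylow r R))
    have hS : (S : Subgroup R) = ⊤ := (S.is_maximal' (Q := (⊤ : Subgroup R))
      (hR.of_equiv Subgroup.topEquiv.symm) le_top).symm
    rcases CfsgLib.FrobRealize.FPF.sylow_cyclic_or_quaternion hVne (hRN.trans hNV)
      (fun a ha ha1 => hfpf a ha1 (hnd hr hrp hR a ha)) S with hcy | ⟨e, -⟩
    · rw [hS] at hcy
      exact Subgroup.topEquiv.isCyclic.1 hcy
    · subst e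
      have hbot : R = ⊥ := by
        by_contra hne
        obtain ⟨k, hk⟩ := IsPGroup.iff_card.1 hR
        rcases Nat.eq_zero_or_pos k with rfl | hk0
        · exact hne (Subgroup.eq_bot_of_card_eq R (by rw [hk, pow_zero]))
        · exact hodd ((hk ▸ dvd_pow_self 2 hk0.ne').trans (Subgroup.card_dvd_of_le hRN))
      subst hbot
      infer_instance
  obtain ⟨Y, hY, hYmem⟩ := closed_of_no_frobenius N hcyc (fun r hr hrp R hRN hR hRne g hgN hgR hg =>
    h.no_frobenius hexp V R g hVc hVp hVne (hnd hr hrp hR) hRne hgR (hRN.trans hNV) (hNV hgN)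
      (fun e => hp.out.one_lt.ne' (by rw [← hg, e, orderOf_one])) ⟨1, by rw [hg, pow_one]⟩) (Nat.card N) N le_rfl le_rfl
  obtain ⟨P'', hP''⟩ := hY.exists_le_sylow
  have hgrow : ∀ S : Sylow p Γ, D ≤ S → D ≠ S → S = P'' := by
    intro S hDS hDne
    have hlt : D.subgroupOf S < ⊤ := lt_top_iff_ne_top.2 fun e =>
      hDne (le_antisymm hDS (Subgroup.subgroupOf_eq_top.1 e))
    haveI := S.isPGroup'.isNilpotent
    obtain ⟨⟨x, hxS⟩, hxn, hxD⟩ := SetLike.exists_of_lt (Group.normalizerCondition_of_isNilpotent _ hlt)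
    have hxN : x ∈ N := by
      rw [Subgroup.mem_normalizer_iff]
      intro d
      refine ⟨fun hd => ?_, fun hd => ?_⟩
      · exact (Subgroup.mem_normalizer_iff.1 hxn ⟨d, hDS hd⟩).1 hd
      · have hdS : d ∈ (S : Subgroup Γ) := by
          have := mul_mem (mul_mem (inv_mem hxS) (hDS hd)) hxS
          rwa [show x⁻¹ * (x * d * x⁻¹) * x = d by group] at this
        exact (Subgroup.mem_normalizer_iff.1 hxn ⟨d, hdS⟩).2 hd
    by_contra hne
    have hle : D ⊔ Subgroup.zpowers x ≤ (S : Subgroup Γ) ⊓ (P'' : Subgroup Γ) := by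
      refine sup_le (le_inf hDS fun d hd => hP'' (hYmem d (Subgroup.le_normalizer hd) (pElement_of_mem hDp hd)))
        (Subgroup.zpowers_le.2 ⟨hxS, hP'' (hYmem x hxN (pElement_of_mem S.isPGroup' hxS))⟩)
    have hgt : Nat.card D < Nat.card ↥((S : Subgroup Γ) ⊓ P'') := by
      refine lt_of_not_ge fun hle' => hxD ?_
      have := Subgroup.eq_of_le_of_card_ge (le_sup_left.trans hle) hle'
      show x ∈ D
      exact this ▸ hle (Subgroup.mem_sup_right (Subgroup.mem_zpowers x))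
    exact absurd (hmax (S, P'') (Finset.mem_filter.2 ⟨Finset.mem_univ _, hne, fun e =>
      hD (eq_bot_iff.2 (e ▸ le_sup_left.trans hle))⟩)) (not_le.2 hgt)
  have hne1 : D ≠ (Q : Subgroup Γ) := fun e => hQne (Sylow.ext
    (Subgroup.eq_of_le_of_card_ge (by rw [← e]; exact inf_le_right) (by rw [h.sylow_card, h.sylow_card])))
  have hne2 : D ≠ (Q' : Subgroup Γ) := fun e => hQne (Sylow.ext (Subgroup.eq_of_le_of_card_ge
    (by rw [← e]; exact inf_le_left) (by rw [h.sylow_card, h.sylow_card])).symm)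
  exact hQne ((hgrow Q inf_le_left hne1).trans (hgrow Q' inf_le_right hne2).symm)

theorem cent_of_mem (P : Sylow p Γ) {v : Γ} (hv : v ∈ P) (hv1 : v ≠ 1) :
    Subgroup.centralizer ({v} : Set Γ) = P :=
  h.cent_eq hv hv1 fun x hx => congrArg Subtype.val ((h.comm P).is_comm.comm ⟨x, hx⟩ ⟨v, hv⟩)

theorem inf_eq_bot {P P' : Sylow p Γ} (hne : P ≠ P') : (P : Subgroup Γ) ⊓ P' = ⊥ :=
  h.inf_eq_bot_of_comm h.comm P P' hne

theorem card_normalizer (P : Sylow p Γ) :
    δ * (P : Subgroup Γ).relIndex (Subgroup.normalizer ((P : Subgroup Γ) : Set Γ)) + 1 = q := by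
  rw [h.cen_card P, show h.cen P = (P : Subgroup Γ) from le_antisymm inf_le_left fun x hx =>
    h.mem_cen.2 ⟨hx, fun y hy => congrArg Subtype.val ((h.comm P).is_comm.comm ⟨y, hy⟩ ⟨x, hx⟩)⟩,
    h.sylow_card P]

theorem card_sylow : Nat.card (Sylow p Γ) = q + 1 := by
  obtain ⟨P⟩ := (inferInstance : Nonempty (Sylow p Γ))
  set d := (P : Subgroup Γ).relIndex (Subgroup.normalizer ((P : Subgroup Γ) : Set Γ))
  have h1 : δ * d + 1 = q := h.card_normalizer P
  have hd : 0 < δ * d := by have := h.hq; omega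
  have h2 : Nat.card Γ = Nat.card (Sylow p Γ) * (d * q) := by
    have hidx := (Subgroup.normalizer ((P : Subgroup Γ) : Set Γ)).index_mul_card
    have hN := ((P : Subgroup Γ).subgroupOf (Subgroup.normalizer ((P : Subgroup Γ) : Set Γ))).index_mul_card
    rw [show (Subgroup.normalizer ((P : Subgroup Γ) : Set Γ)).index = Nat.card (Sylow p Γ) from
      P.card_eq_index_normalizer.symm, ← hN,
      Nat.card_congr (Subgroup.subgroupOfEquivOfLe Subgroup.le_normalizer).toEquiv, h.sylow_card P] at hidx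
    exact hidx.symm
  refine Nat.eq_of_mul_eq_mul_right (show 0 < (δ * d) * q from Nat.mul_pos hd (by have := h.hq; omega)) ?_
  calc Nat.card (Sylow p Γ) * (δ * d * q) = Nat.card Γ * δ := by rw [h2]; ring
    _ = q * (q * q - 1) := h.card
    _ = (q + 1) * (δ * d * q) := by
        obtain ⟨m, rfl⟩ : ∃ m, q = m + 1 := ⟨q - 1, by have := h.hq; omega⟩
        rw [show δ * d = m by omega, show (m + 1) * (m + 1) - 1 = m * m + 2 * m by
          rw [show (m + 1) * (m + 1) = m * m + 2 * m + 1 by ring]; rfl]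
        ring

end CfsgLib.ClassSizePSL.CentHyp
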