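import Mathlib
import Cfsg.Agent.Lib.ClassSizePSL.TrivialIntersection
import Cfsg.Agent.Lib.Perm.ZGroup.PSL
import Cfsg.Agent.Lib.Classical.Dickson.PSL
import Cfsg.Agent.Lib.Involution.RecognisePSL2

/-!
# Recognition of `PSL₂(q)`
-/

set_option autoImplicit false

open scoped Classical

namespace CfsgLib.ClassSizePSL.CentHyp

open MulAction

variable {Γ : Type*} [Group Γ] [Finite Γ] {p q δ : ℕ} [hp : Fact p.Prime] (h : CentHyp Γ p q δ)
include h

omit h in
/-- A `p`-element normalising a Sylow subgroup lies in it. -/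
theorem mem_of_normalizes {P : Sylow p Γ} {g : Γ} (hg : g ∈ Subgroup.normalizer ((P : Subgroup Γ) : Set Γ))
    (hk : ∃ k, orderOf g = p ^ k) : g ∈ P := by
  obtain ⟨k, hk⟩ := hk
  have hpg : IsPGroup p (Subgroup.zpowers g) := IsPGroup.of_card (n := k) (by rw [Nat.card_zpowers, hk])
  have hsup : IsPGroup p ((P : Subgroup Γ) ⊔ Subgroup.zpowers g : Subgroup Γ) :=
    P.isPGroup'.to_sup_of_normal_left' hpg (Subgroup.zpowers_le.2 hg)
  have e := P.is_maximal' hsup le_sup_left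
  show g ∈ (P : Subgroup Γ)
  exact e.le (Subgroup.mem_sup_right (Subgroup.mem_zpowers g))

theorem smul_free {P y : Sylow p Γ} {u : Γ} (hu : u ∈ P) (hy : y ≠ P) (he : u • y = y) : u = 1 := by
  have huy : u ∈ y := mem_of_normalizes (Sylow.smul_eq_iff_mem_normalizer.1 he) (pElement_of_mem P.isPGroup' hu)
  exact (Subgroup.eq_bot_iff_forall _).1 (h.inf_eq_bot hy) u ⟨huy, hu⟩

omit h in
theorem smul_self {P : Sylow p Γ} {u : Γ} (hu : u ∈ P) : u • P = P :=
  Sylow.smul_eq_iff_mem_normalizer.2 (Subgroup.le_normalizer hu)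

theorem regular (P y z : Sylow p Γ) (hy : y ≠ P) (hz : z ≠ P) :
    ∃! u : (P : Subgroup Γ), (u : Γ) • y = z := by
  haveI := Fintype.ofFinite (Sylow p Γ)
  have hne : ∀ u : (P : Subgroup Γ), (u : Γ) • y ≠ P := fun u e =>
    hy (MulAction.injective (u : Γ) (e.trans (smul_self u.2).symm))
  let φ : ↥(P : Subgroup Γ) → {w : Sylow p Γ // w ≠ P} := fun u => ⟨(u : Γ) • y, hne u⟩
  have hinj : Function.Injective φ := fun u v e => by
    have e' : (u : Γ) • y = (v : Γ) • y := congrArg Subtype.val e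
    have h1 : ((v⁻¹ * u : (P : Subgroup Γ)) : Γ) • y = y := by
      rw [Subgroup.coe_mul, Subgroup.coe_inv, mul_smul, e', inv_smul_smul]
    exact (inv_mul_eq_one.1 (Subtype.ext (h.smul_free (v⁻¹ * u).2 hy h1) : v⁻¹ * u = 1)).symm
  have hbij : Function.Bijective φ := by
    refine (Nat.bijective_iff_injective_and_card φ).2 ⟨hinj, ?_⟩
    rw [h.sylow_card P, Nat.card_eq_fintype_card, Fintype.card_subtype_compl, Fintype.card_subtype_eq,
      ← Nat.card_eq_fintype_card, h.card_sylow]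
    omega
  obtain ⟨u, hu⟩ := hbij.2 ⟨z, hz⟩
  exact ⟨u, congrArg Subtype.val hu, fun v hv => hbij.1 (Subtype.ext (hv.trans (congrArg Subtype.val hu).symm))⟩

theorem fix_three {g : Γ} {x y z : Sylow p Γ} (hxy : x ≠ y) (hxz : x ≠ z) (hyz : y ≠ z)
    (hx : g • x = x) (hy : g • y = y) (hz : g • z = z) : g = 1 := by
  obtain ⟨u, hu, huniq⟩ := h.regular x y z hxy.symm hxz.symm
  have hu' : (u : Γ) • y = z := hu
  have hgN := Sylow.smul_eq_iff_mem_normalizer.1 hx
  have hc : g * u * g⁻¹ = u := by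
    have := huniq ⟨g * u * g⁻¹, (Subgroup.mem_normalizer_iff.1 hgN _).1 u.2⟩ (by
      show (g * (u : Γ) * g⁻¹) • y = z
      rw [mul_smul, mul_smul, inv_smul_eq_iff.2 hy.symm, hu', hz])
    exact congrArg Subtype.val this
  have hu1 : (u : Γ) ≠ 1 := fun e => hyz (by rw [← hu', e, one_smul])
  have hgx : g ∈ (x : Subgroup Γ) := by
    rw [← h.cent_of_mem x u.2 hu1, Subgroup.mem_centralizer_singleton_iff]
    exact mul_inv_eq_iff_eq_mul.1 hc
  exact h.smul_free hgx hxy.symm hy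

theorem two_transitive : IsMultiplyPretransitive Γ (Sylow p Γ) 2 := by
  rw [is_two_pretransitive_iff]
  intro a b c d hab hcd
  obtain ⟨g, hg⟩ := MulAction.exists_smul_eq Γ a c
  obtain ⟨u, hu, -⟩ := h.regular c (g • b) d (fun e => hab (MulAction.injective g (hg.trans e.symm))) hcd.symm
  exact ⟨(u : Γ) * g, by rw [mul_smul, hg, smul_self u.2], by rw [mul_smul]; exact hu⟩

theorem exists_fix_two : ∃ g : Γ, g ≠ 1 ∧ ∃ a b : Sylow p Γ, a ≠ b ∧ g • a = a ∧ g • b = b := by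
  obtain ⟨P⟩ := (inferInstance : Nonempty (Sylow p Γ))
  haveI : Nontrivial (Sylow p Γ) := Finite.one_lt_card_iff_nontrivial.1 (by
    rw [h.card_sylow]; have := h.hq; omega)
  obtain ⟨b, hb⟩ := exists_ne P
  have hN : ¬ Subgroup.normalizer ((P : Subgroup Γ) : Set Γ) ≤ (P : Subgroup Γ) := fun hle => by
    have h1 := h.card_normalizer P
    rw [Subgroup.relIndex_eq_one.2 hle, mul_one] at h1
    have := h.hq
    rcases h.hδ with ⟨-, e⟩ | ⟨-, e⟩ <;> omega
  obtain ⟨n, hn, hnP⟩ := SetLike.not_le_iff_exists.1 hN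
  have hnP' : n • P = P := Sylow.smul_eq_iff_mem_normalizer.2 hn
  obtain ⟨u, hu, -⟩ := h.regular P b (n • b) hb (fun e => hb (MulAction.injective n (e.trans hnP'.symm)))
  have hu' : (u : Γ) • b = n • b := hu
  refine ⟨(u : Γ)⁻¹ * n, fun e => hnP ?_, P, b, hb.symm, ?_, ?_⟩
  · rw [← inv_mul_eq_one.1 e]; exact u.2
  · rw [mul_smul, hnP', inv_smul_eq_iff, smul_self u.2]
  · rw [mul_smul, ← hu', inv_smul_smul]

/-- A regular normal subgroup consists of the identity and one class of `q` involutions. -/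
theorem no_regular (hp2 : p ≠ 2)
    (hinv : ∀ x : Γ, orderOf x = 2 → Nat.card (Subgroup.centralizer ({x} : Set Γ)) * q ≠ Nat.card Γ)
    (N : Subgroup Γ) [N.Normal] (hN : IsPretransitive N (Sylow p Γ)) :
    ∃ a : Sylow p Γ, stabilizer N a ≠ ⊥ := by
  by_contra hall
  push Not at hall
  obtain ⟨P⟩ := (inferInstance : Nonempty (Sylow p Γ))
  have hNcard : Nat.card N = q + 1 := by
    rw [← h.card_sylow, ← (stabilizer N P).index_mul_card, hall P, Subgroup.card_bot, mul_one, ← hall P,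
      MulAction.index_stabilizer_of_transitive]
  let T := {x : N // x ≠ 1}
  haveI := Fintype.ofFinite N
  have hT : Nat.card T = q := by
    rw [Nat.card_eq_fintype_card, Fintype.card_subtype_compl, Fintype.card_subtype_eq,
      ← Nat.card_eq_fintype_card, hNcard]
    omega
  obtain ⟨x, hx⟩ := exists_prime_orderOf_dvd_card' 2 (show 2 ∣ Nat.card N by
    rw [hNcard]
    obtain ⟨n, -, hq⟩ := h.hqp
    have hodd : Odd q := hq ▸ (hp.out.odd_of_ne_two hp2).pow
    exact (hodd.add_odd odd_one).two_dvd)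
  have hx1 : x ≠ 1 := fun e => by rw [e, orderOf_one] at hx; omega
  let ψ : ↥(P : Subgroup Γ) → T := fun u =>
    ⟨⟨(u : Γ) * x * (u : Γ)⁻¹, Subgroup.Normal.conj_mem inferInstance _ x.2 _⟩,
      fun e => hx1 (Subtype.ext (conj_eq_one_iff.1 (congrArg Subtype.val e)))⟩
  have hψ : Function.Bijective ψ := by
    refine (Nat.bijective_iff_injective_and_card ψ).2 ⟨fun u v e => ?_, by rw [h.sylow_card P, hT]⟩
    have e' : (u : Γ) * x * (u : Γ)⁻¹ = (v : Γ) * x * (v : Γ)⁻¹ := congrArg (fun w => ((w.1 : N) : Γ)) e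
    by_contra hne
    have hw1 : ((v⁻¹ * u : (P : Subgroup Γ)) : Γ) ≠ 1 := fun e1 =>
      hne (inv_mul_eq_one.1 (Subtype.ext e1 : v⁻¹ * u = 1)).symm
    have hxP : (x : Γ) ∈ (P : Subgroup Γ) := by
      rw [← h.cent_of_mem P (v⁻¹ * u).2 hw1, Subgroup.mem_centralizer_singleton_iff]
      push_cast
      calc (x : Γ) * ((v : Γ)⁻¹ * u) = (v : Γ)⁻¹ * ((v : Γ) * x * (v : Γ)⁻¹) * u := by group
        _ = (v : Γ)⁻¹ * ((u : Γ) * x * (u : Γ)⁻¹) * u := by rw [e']
        _ = (v : Γ)⁻¹ * u * x := by group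
    have hmem : x ∈ stabilizer N P := smul_self hxP
    rw [hall P] at hmem
    exact hx1 (Subgroup.mem_bot.1 hmem)
  have hx2 : orderOf (x : Γ) = 2 := by rw [Subgroup.orderOf_coe, hx]
  refine hinv x hx2 ?_
  have hC : Nat.card (ConjClasses.mk (x : Γ)).carrier = q := by
    rw [← hT]
    refine Nat.card_congr (Equiv.ofBijective (fun w => (⟨⟨w.1, ?_⟩, ?_⟩ : T)) ⟨fun a b e => ?_, fun t => ?_⟩)
    · obtain ⟨g, hg⟩ := isConj_iff.1 (ConjClasses.mk_eq_mk_iff_isConj.1
        (ConjClasses.mem_carrier_iff_mk_eq.1 w.2)).symm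
      rw [← hg]
      exact Subgroup.Normal.conj_mem inferInstance _ x.2 _
    · intro e
      have e1 : w.1 = 1 := congrArg Subtype.val e
      have h2 := ConjClasses.mk_eq_mk_iff_isConj.1 (ConjClasses.mem_carrier_iff_mk_eq.1 w.2)
      rw [e1] at h2
      exact hx1 (Subtype.ext (isConj_one_right.1 h2))
    · exact Subtype.ext (congrArg (fun w : T => ((w.1 : N) : Γ)) e)
    · obtain ⟨u, hu⟩ := hψ.2 t
      refine ⟨⟨(t.1 : Γ), ConjClasses.mem_carrier_iff_mk_eq.2 (ConjClasses.mk_eq_mk_iff_isConj.2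
        ((isConj_iff (a := (x : Γ)) (b := ((t.1 : N) : Γ))).2 ⟨u, (congrArg (fun w : T => ((w.1 : N) : Γ)) hu)⟩).symm)⟩, rfl⟩
  rw [← card_conj (x : Γ), hC, mul_comm]

theorem psl_odd (hp2 : p ≠ 2)
    (hinv : ∀ x : Γ, orderOf x = 2 → Nat.card (Subgroup.centralizer ({x} : Set Γ)) * q ≠ Nat.card Γ)
    (F : Type*) [Field F] [Fintype F] (hF : Fintype.card F = q) :
    Nonempty (Γ ≃* Matrix.ProjectiveSpecialLinearGroup (Fin 2) F) := by
  haveI := Fintype.ofFinite (Sylow p Γ)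
  have hδ : δ = 2 := by
    rcases h.hδ with ⟨e, -⟩ | ⟨-, e⟩
    · exact absurd e hp2
    · exact e
  have hfaith : FaithfulSMul Γ (Sylow p Γ) := ⟨fun {g g'} hgg => by
    obtain ⟨a, b, c, hab, hac, hbc⟩ := Fintype.two_lt_card_iff.1 (show 2 < Fintype.card (Sylow p Γ) by
      rw [← Nat.card_eq_fintype_card, h.card_sylow]; have := h.hq; omega)
    refine (inv_mul_eq_one.1 (h.fix_three (g := g⁻¹ * g') hab hac hbc ?_ ?_ ?_))
    all_goals rw [mul_smul, ← hgg, inv_smul_smul]⟩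
  have hZ : Cfsg.IsZassenhausGroup Γ (Sylow p Γ) :=
    ⟨hfaith, h.two_transitive, fun g a b c hab hbc hac ha hb hc => h.fix_three hab hac hbc ha hb hc,
      h.exists_fix_two, fun N hN hNt => haveI := hN; h.no_regular hp2 hinv N hNt⟩
  obtain ⟨P⟩ := (inferInstance : Nonempty (Sylow p Γ))
  haveI : Nontrivial (Sylow p Γ) := Finite.one_lt_card_iff_nontrivial.1 (by
    rw [h.card_sylow]; have := h.hq; omega)
  obtain ⟨b, hb⟩ := exists_ne P
  let S : CfsgLib.Perm.ZGroup.Setup Γ (Sylow p Γ) P b :=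
    ⟨hZ, hb.symm, (P : Subgroup Γ), fun u hu => smul_self hu,
      ⟨fun n hn g => by
        rw [Subgroup.mem_subgroupOf] at hn ⊢
        exact (Subgroup.mem_normalizer_iff.1 (Sylow.smul_eq_iff_mem_normalizer.1 g.2) _).1 hn⟩,
      h.regular P⟩
  have hSF : Nat.card S.F = q := h.sylow_card P
  have h2d : 2 * Nat.card S.H = Nat.card S.F - 1 := by
    have hc := S.card_G
    rw [hSF] at hc
    have hΓ := h.card
    rw [hδ, hc] at hΓ
    rw [hSF]
    obtain ⟨m, rfl⟩ : ∃ m, q = m + 1 := ⟨q - 1, by have := h.hq; omega⟩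
    rw [show (m + 1) * (m + 1) - 1 = (m + 2) * m by
      rw [show (m + 1) * (m + 1) = (m + 2) * m + 1 by ring]; rfl] at hΓ
    have : (m + 2) * (m + 1) * (2 * Nat.card S.H) = (m + 2) * (m + 1) * m := by linear_combination hΓ
    simpa using Nat.eq_of_mul_eq_mul_left (by positivity) this
  obtain ⟨p', f, K, hK, hKf, -, -, hKc, hΩ, ⟨e⟩⟩ := CfsgLib.Perm.ZGroup.psl_of_half S (h.comm P) h2d
  have hKF : Fintype.card K = Fintype.card F := by
    rw [hKc, hF]
    have := h.card_sylow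
    rw [Nat.card_eq_fintype_card, hΩ] at this
    omega
  obtain ⟨e1⟩ := CfsgLib.Classical.Dickson.psl_congr (RingEquiv.refl K)
  obtain ⟨e'⟩ := CfsgLib.Classical.Dickson.psl_congr (FiniteField.ringEquivOfCardEq hKF)
  exact ⟨e.trans (e1.symm.trans e')⟩

theorem psl_even (hp2 : p = 2) (F : Type*) [Field F] [Fintype F] (hF : Fintype.card F = q) :
    Nonempty (Γ ≃* Matrix.ProjectiveSpecialLinearGroup (Fin 2) F) := by
  subst hp2
  obtain ⟨T⟩ := (inferInstance : Nonempty (Sylow 2 Γ))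
  have hnc : ¬ IsCyclic (T : Subgroup Γ) := by
    intro hcyc
    obtain ⟨g, hg⟩ := hcyc.exists_generator
    have h1 : Nat.card (T : Subgroup Γ) ∣ 2 := by
      rw [← orderOf_eq_card_of_forall_mem_zpowers hg]
      refine orderOf_dvd_of_pow_eq_one (Subtype.ext ?_)
      rw [SubgroupClass.coe_pow, sq, h.mul_self_eq_one rfl g (pElement_of_mem T.isPGroup' g.2), OneMemClass.coe_one]
    have h2 := Nat.le_of_dvd (by omega) h1
    have := h.sylow_card T
    have := h.hq
    omega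
  have hnn : ¬ (T : Subgroup Γ).Normal := fun hn => by
    haveI := hn
    haveI := Sylow.unique_of_normal T hn
    have := h.card_sylow
    rw [Nat.card_unique] at this
    have := h.hq
    omega
  have hC : ∀ t : Γ, orderOf t = 2 → IsMulCommutative (Subgroup.centralizer ({t} : Set Γ)) ∧
      ∀ c ∈ Subgroup.centralizer ({t} : Set Γ), c ^ 2 = 1 := by
    intro t ht
    obtain ⟨P, hP⟩ := h.cent_sylow (v := t) (fun e => by rw [e, orderOf_one] at ht; omega) ⟨1, by rw [ht, pow_one]⟩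
    rw [← hP]
    exact ⟨h.comm P, fun c hc => by rw [sq]; exact h.mul_self_eq_one rfl c (pElement_of_mem P.isPGroup' hc)⟩
  obtain ⟨K, hK, hKf, hKc, ⟨e⟩⟩ :=
    CfsgLib.Involution.RecognisePSL2.nonempty_mulEquiv (T := T) ⟨hnc, hnn, hC⟩
  obtain ⟨e'⟩ := CfsgLib.Classical.Dickson.psl_congr
    (FiniteField.ringEquivOfCardEq (hKc.trans ((h.sylow_card T).trans hF.symm)))
  obtain ⟨e1⟩ := CfsgLib.Classical.Dickson.psl_congr (RingEquiv.refl K)
  exact ⟨e.trans (e1.symm.trans e')⟩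

end CfsgLib.ClassSizePSL.CentHyp
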