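import Cfsg.Agent.Lib.ClassSizePSL.Counting
import Cfsg.Agent.Lib.ClassSizePSL.Recognition
import Cfsg.Agent.S2507
import Cfsg.Agent.S2508

/-!
# The class sizes of `PSL₂(q)` determine the central quotient
-/

set_option autoImplicit false

open scoped Classical

namespace CfsgLib.ClassSizePSL

variable {G : Type*} [Group G] [Finite G]

theorem size_mem {S : Set ℕ} (h : Set.range (fun g : G => sz g) = S) (g : G) : sz g ∈ S :=
  h ▸ Set.mem_range_self g

theorem exists_size {S : Set ℕ} (h : Set.range (fun g : G => sz g) = S) {x : ℕ} (hx : x ∈ S) (h1 : x ≠ 1) :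
    ∃ g : G, g ∉ Subgroup.center G ∧ sz g = x := by
  obtain ⟨g, hg⟩ : x ∈ Set.range (fun g : G => sz g) := h ▸ hx
  exact ⟨g, fun hz => h1 (by rw [← sz_eq_one_iff.2 hz]; exact hg.symm), hg⟩

/-- The hypothesis for odd `q`, and the absence of large involution centralisers: `a = 2 o` and `b` are
`q ± 1`, `o` is odd and `4 ∣ b`. -/
theorem odd_sizeHyp {p n q o b : ℕ} [hp : Fact p.Prime] (hn : 1 ≤ n) (hqn : q = p ^ n) (hp2 : p ≠ 2)
    (hq : 7 ≤ q) (hab : 2 * o * b = q * q - 1) (ho : Odd o) (hb : 4 ∣ b) (hd : 2 * o = b + 2 ∨ b = 2 * o + 2)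
    (hS : Set.range (fun g : G => sz g) = {1, o * b, q * o, q * b, q * (2 * o)}) :
    SizeHyp G p q 2 (o * b) (q * b) b ∧
      ∀ (g : G) (i : ℕ), g ∉ Subgroup.center G → sz g = q * 2 ^ i → ¬ 2 ^ (i + 1) ∣ o * b := by
  have hq0 : 0 < q := by omega
  have ho2 : ¬ 2 ∣ o := fun h => Nat.not_even_iff_odd.2 ho (even_iff_two_dvd.2 h)
  have ho3 : 3 ≤ o := by
    by_contra h
    obtain ⟨t, rfl⟩ := ho
    obtain rfl : t = 0 := by omega
    have h1 : 48 ≤ q * q - 1 := Nat.le_sub_of_add_le (by nlinarith)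
    rcases hd with h' | h' <;> omega
  have hb4 : 4 ≤ b := Nat.le_of_dvd (by omega) hb
  have hbU : b < o * b := by nlinarith
  have hpU : ¬ p ∣ o * b := by
    intro h
    have h1 : p ∣ q * q := dvd_mul_of_dvd_left (hqn ▸ dvd_pow_self p (by omega)) _
    have h2 : p ∣ q * q - 1 := hab ▸ (by rw [mul_assoc]; exact h.mul_left 2)
    have h3 := Nat.dvd_sub h1 h2
    rw [Nat.sub_sub_self (Nat.one_le_iff_ne_zero.2 (by positivity))] at h3
    exact hp.out.one_lt.ne' (Nat.dvd_one.1 h3)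
  have hcop : Nat.Coprime (o * b) q := by
    rw [hqn]; exact ((hp.out.coprime_iff_not_dvd).2 hpU).symm.pow_right n
  have hqU : ∀ x, ¬ q * x ∣ o * b := fun x h =>
    hpU ((hqn ▸ dvd_pow_self p (by omega) : p ∣ q).trans ((Dvd.intro x rfl).trans h))
  have hUq : ∀ x, 0 < x → x < o * b → ¬ o * b ∣ q * x := fun x h0 hx h =>
    absurd (Nat.le_of_dvd h0 (hcop.dvd_of_dvd_mul_left h)) (by omega)
  have h2o : 2 * o < o * b := by nlinarith
  have hob : ¬ o ∣ b := by
    intro h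
    have h1 : o ∣ 2 := by
      rcases hd with e | e
      · exact (Nat.dvd_add_right h).1 (e ▸ Dvd.intro_left 2 rfl)
      · exact (Nat.dvd_add_right (Dvd.intro_left 2 rfl : o ∣ 2 * o)).1 (e ▸ h)
    have := Nat.le_of_dvd two_pos h1
    omega
  have hmem := size_mem hS
  simp only [Set.mem_insert_iff, Set.mem_singleton_iff] at hmem
  have hne1 : ∀ g : G, g ∉ Subgroup.center G → sz g ≠ 1 := fun g hg e => hg (sz_eq_one_iff.1 e)
  have hU1 : o * b ≠ 1 := by omega
  have hB1 : q * b ≠ 1 := by nlinarith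
  refine ⟨⟨⟨n, hn, hqn⟩, Or.inr ⟨hp2, rfl⟩, by omega, by rw [← hab]; ring, hpU, rfl, hbU,
    fun h => hpU (h.mul_left o), exists_size hS (by simp) hU1, exists_size hS (by simp) hB1, fun g hg => ?_,
    fun g hg hd' => ?_, fun g hd' => ?_, fun r hr hrp => ?_⟩, fun g i hg hs hdiv => ?_⟩
  · rcases hmem g with e | e | e | e | e
    · exact absurd e (hne1 g hg)
    · exact Or.inl e
    all_goals
      refine Or.inr ⟨e ▸ Dvd.intro _ rfl, ?_, ?_⟩
      · rw [e]
        refine hUq _ (by omega) (by nlinarith)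
      · rw [e]; exact hqU _
  · rcases hmem g with e | e | e | e | e
    · exact absurd e (hne1 g hg)
    · exact absurd (e ▸ hd') (hUq b (by omega) hbU)
    · exact absurd (Nat.dvd_of_mul_dvd_mul_left hq0 (e ▸ hd')) hob
    · exact e
    · exact absurd ((Dvd.intro_left 2 rfl).trans (Nat.dvd_of_mul_dvd_mul_left hq0 (e ▸ hd'))) hob
  · rcases hmem g with e | e | e | e | e
    · exact absurd (Nat.dvd_one.1 (e ▸ hd')) hB1
    · exact absurd (e ▸ hd') (hqU b)
    · exact absurd (((by norm_num : 2 ∣ 4).trans hb).trans (Nat.dvd_of_mul_dvd_mul_left hq0 (e ▸ hd'))) ho2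
    · exact e
    · exact absurd ((Nat.mul_dvd_mul_iff_left two_pos).1
        ((show 2 * 2 ∣ b by simpa using hb).trans (Nat.dvd_of_mul_dvd_mul_left hq0 (e ▸ hd')))) ho2
  · have hUne : ∀ x, q * x ≠ o * b := fun x e => hqU x (dvd_of_eq e)
    by_cases hr2 : r = 2
    · subst hr2
      obtain ⟨z, hz, hzs⟩ := exists_size hS (x := q * o) (by simp) (by nlinarith)
      refine ⟨z, hz, hzs ▸ hUne o, fun h => ?_⟩
      rw [hzs] at h
      rcases Nat.prime_two.dvd_mul.1 h with h | h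
      · exact hp2 ((Nat.prime_dvd_prime_iff_eq Nat.prime_two hp.out).1 (Nat.prime_two.dvd_of_dvd_pow (hqn ▸ h))).symm
      · exact ho2 h
    have hrq : ¬ r ∣ q := fun h => hrp ((Nat.prime_dvd_prime_iff_eq hr hp.out).1 (hr.dvd_of_dvd_pow (hqn ▸ h)))
    by_cases hrb : r ∣ b
    · obtain ⟨z, hz, hzs⟩ := exists_size hS (x := q * (2 * o)) (by simp) (by nlinarith)
      refine ⟨z, hz, hzs ▸ hUne (2 * o), fun h => ?_⟩
      rw [hzs] at h
      have hro : r ∣ 2 * o := (hr.dvd_mul.1 h).resolve_left hrq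
      have h2 : r ∣ 2 := by
        rcases hd with e | e
        · exact (Nat.dvd_add_right hrb).1 (e ▸ hro)
        · exact (Nat.dvd_add_right hro).1 (e ▸ hrb)
      exact hr2 ((Nat.prime_dvd_prime_iff_eq hr Nat.prime_two).1 h2)
    · obtain ⟨z, hz, hzs⟩ := exists_size hS (x := q * b) (by simp) hB1
      refine ⟨z, hz, hzs ▸ hUne b, fun h => ?_⟩
      rw [hzs] at h
      exact hrb ((hr.dvd_mul.1 h).resolve_left hrq)
  · have key : ∀ x, q * x = q * 2 ^ i → x = 2 ^ i := fun x e => Nat.eq_of_mul_eq_mul_left hq0 e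
    rcases hmem g with e | e | e | e | e
    · exact hne1 g hg e
    · exact hqU (2 ^ i) (dvd_of_eq (hs.symm.trans e))
    · have h1 := key o (e.symm.trans hs)
      rcases Nat.eq_zero_or_pos i with rfl | h0
      · rw [pow_zero] at h1; omega
      · exact ho2 (h1 ▸ dvd_pow_self 2 (by omega))
    · have h1 := key b (e.symm.trans hs)
      rw [pow_succ, ← h1, mul_comm o b] at hdiv
      exact ho2 (Nat.dvd_of_mul_dvd_mul_left (by omega) hdiv)
    · have h1 := key (2 * o) (e.symm.trans hs)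
      rcases i with _ | _ | j
      · norm_num at h1
      · norm_num at h1; omega
      · exact ho2 ⟨2 ^ j, by rw [pow_succ, pow_succ] at h1; omega⟩

/-- **The central quotient, for odd `q`.** -/
theorem quotient_odd {F : Type*} [Field F] [Fintype F] (hodd : ¬ 2 ∣ Fintype.card F) (h7 : 7 ≤ Fintype.card F)
    (h : Set.range (fun g : G => sz g) = Set.range (fun g : (Matrix.ProjectiveSpecialLinearGroup (Fin 2) F) =>
      (Subgroup.centralizer ({g} : Set (Matrix.ProjectiveSpecialLinearGroup (Fin 2) F))).index)) :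
    Nonempty (G ⧸ Subgroup.center G ≃* Matrix.ProjectiveSpecialLinearGroup (Fin 2) F) := by
  obtain ⟨p, hp⟩ := CharP.exists F
  obtain ⟨n, hpr, hn⟩ := FiniteField.card F p
  haveI : Fact p.Prime := ⟨hpr⟩
  have hp2 : p ≠ 2 := fun e => hodd (by rw [hn, e]; exact dvd_pow_self 2 n.ne_zero)
  obtain ⟨h1, h3⟩ := Cfsg.Agent.S2508.result hodd h7
  obtain ⟨q, hq⟩ : ∃ q, Fintype.card F = q := ⟨_, rfl⟩
  rw [hq] at hn hodd h7 h1 h3
  obtain ⟨o, b, hab, ho, hb, hd, hS⟩ : ∃ o b, 2 * o * b = q * q - 1 ∧ Odd o ∧ 4 ∣ b ∧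
      (2 * o = b + 2 ∨ b = 2 * o + 2) ∧
      Set.range (fun g : G => sz g) = {1, o * b, q * o, q * b, q * (2 * o)} := by
    have hsq : q ^ 2 = q * q := sq q
    rcases (show q % 4 = 1 ∨ q % 4 = 3 by omega) with h4 | h4
    · obtain ⟨m, rfl⟩ : ∃ m, q = 4 * m + 1 := ⟨q / 4, by omega⟩
      refine ⟨2 * m + 1, 4 * m, ?_, ⟨m, rfl⟩, ⟨m, rfl⟩, Or.inl (by ring), ?_⟩
      · symm; apply Nat.sub_eq_of_eq_add; ring
      · rw [h, h1 h4]
        have e1 : ((4 * m + 1) ^ 2 - 1) / 2 = (2 * m + 1) * (4 * m) := by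
          rw [show (4 * m + 1) ^ 2 = 2 * ((2 * m + 1) * (4 * m)) + 1 by ring]; omega
        have e2 : (4 * m + 1) * (4 * m + 1 + 1) = 2 * ((4 * m + 1) * (2 * m + 1)) := by ring
        have e3 : (4 * m + 1) * (4 * m + 1 + 1) = (4 * m + 1) * (2 * (2 * m + 1)) := by ring
        rw [e1, show (4 * m + 1) - 1 = 4 * m from by omega,
          show (4 * m + 1) * (4 * m + 1 + 1) / 2 = (4 * m + 1) * (2 * m + 1) by omega, e3]
    · obtain ⟨m, rfl⟩ : ∃ m, q = 4 * m + 3 := ⟨q / 4, by omega⟩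
      refine ⟨2 * m + 1, 4 * (m + 1), ?_, ⟨m, rfl⟩, Dvd.intro _ rfl, Or.inr (by ring), ?_⟩
      · symm; apply Nat.sub_eq_of_eq_add; ring
      · rw [h, h3 h4]
        have e1 : ((4 * m + 3) ^ 2 - 1) / 2 = (2 * m + 1) * (4 * (m + 1)) := by
          rw [show (4 * m + 3) ^ 2 = 2 * ((2 * m + 1) * (4 * (m + 1))) + 1 by ring]; omega
        have e2 : (4 * m + 3) * (4 * m + 2) = 2 * ((4 * m + 3) * (2 * m + 1)) := by ring
        rw [e1, show (4 * m + 3) - 1 = 4 * m + 2 from by omega,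
          show (4 * m + 3) * (4 * m + 2) / 2 = (4 * m + 3) * (2 * m + 1) by omega,
          show (4 * m + 3 + 1) = 4 * (m + 1) by ring, show (4 * m + 2) = 2 * (2 * m + 1) by ring]
  obtain ⟨hyp, hbad⟩ := odd_sizeHyp (G := G) n.pos hn hp2 h7 hab ho hb hd hS
  refine hyp.centHyp.psl_odd hp2 (fun x hx hC => ?_) F hq
  obtain ⟨g, i, hg, hs, hdvd⟩ := hyp.involution_size hp2 hx hC
  exact hbad g i hg hs hdvd

/-- The hypothesis for even `q`. -/
theorem even_sizeHyp {p n q : ℕ} [hp : Fact p.Prime] (hn : 1 ≤ n) (hqn : q = p ^ n) (hp2 : p = 2) (hq : 4 ≤ q)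
    (hS : Set.range (fun g : G => sz g) = {1, q * (q - 1), q * q - 1, q * (q + 1)}) :
    SizeHyp G p q 1 (q * q - 1) (q * (q + 1)) (q + 1) := by
  obtain ⟨c, rfl⟩ : ∃ c, q = c + 1 := ⟨q - 1, by omega⟩
  have hc : c + 1 - 1 = c := by omega
  have hU : (c + 1) * (c + 1) - 1 = (c + 2) * c := by apply Nat.sub_eq_of_eq_add; ring
  rw [hc, hU] at hS
  rw [hU]
  have hev : 2 ∣ c + 1 := by rw [hqn, hp2]; exact dvd_pow_self 2 (by omega)
  have hq0 : 0 < c + 1 := by omega
  have hpU : ¬ p ∣ (c + 2) * c := by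
    rw [hp2]; intro h
    rcases Nat.prime_two.dvd_mul.1 h with h | h <;> omega
  have hcop : Nat.Coprime ((c + 2) * c) (c + 1) := by
    rw [hqn]; exact ((hp.out.coprime_iff_not_dvd).2 hpU).symm.pow_right n
  have hqU : ∀ x, ¬ (c + 1) * x ∣ (c + 2) * c := fun x h =>
    hpU ((hqn ▸ dvd_pow_self p (by omega) : p ∣ c + 1).trans ((Dvd.intro x rfl).trans h))
  have hUq : ∀ x, 0 < x → x < (c + 2) * c → ¬ (c + 2) * c ∣ (c + 1) * x := fun x h0 hx h =>
    absurd (Nat.le_of_dvd h0 (hcop.dvd_of_dvd_mul_left h)) (by omega)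
  have hbU : c + 2 < (c + 2) * c := by nlinarith
  have hmem := size_mem hS
  simp only [Set.mem_insert_iff, Set.mem_singleton_iff] at hmem
  have hne1 : ∀ g : G, g ∉ Subgroup.center G → sz g ≠ 1 := fun g hg e => hg (sz_eq_one_iff.1 e)
  have hc2 : ∀ r : ℕ, r ∣ c → r ∣ c + 2 → r ∣ 2 := fun r h1 h2 => (Nat.dvd_add_right h1).1 h2
  have hB1 : (c + 1) * (c + 2) ≠ 1 := by nlinarith
  refine ⟨⟨n, hn, hqn⟩, Or.inl ⟨hp2, rfl⟩, by omega, by rw [mul_one, hU], hpU, rfl, hbU, fun h => hpU (h.mul_right c),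
    exists_size hS (by simp) (by omega), exists_size hS (by simp) hB1, fun g hg => ?_, fun g hg hd => ?_,
    fun g hd => ?_, fun r hr hrp => ?_⟩
  · rcases hmem g with e | e | e | e
    · exact absurd e (hne1 g hg)
    swap
    · exact Or.inl e
    all_goals
      refine Or.inr ⟨e ▸ Dvd.intro _ rfl, ?_, ?_⟩
      · rw [e]; exact hUq _ (by omega) (by omega)
      · rw [e]; exact hqU _
  · rcases hmem g with e | e | e | e
    · exact absurd e (hne1 g hg)
    · have h1 : c ∣ 2 := hc2 c dvd_rfl (Nat.dvd_of_mul_dvd_mul_left hq0 (e ▸ hd))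
      have := Nat.le_of_dvd two_pos h1; omega
    · exact absurd (e ▸ hd) (hUq (c + 2) (by omega) hbU)
    · exact e
  · rcases hmem g with e | e | e | e
    · exact absurd (Nat.dvd_one.1 (hd.trans (dvd_of_eq e))) hB1
    · have := Nat.le_of_dvd (by omega) (Nat.dvd_of_mul_dvd_mul_left hq0 (e ▸ hd)); omega
    · exact absurd (e ▸ hd) (hqU _)
    · exact e
  · have hrq : ¬ r ∣ c + 1 := fun h => hrp ((Nat.prime_dvd_prime_iff_eq hr hp.out).1 (hr.dvd_of_dvd_pow (hqn ▸ h)))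
    have hUne : ∀ x, (c + 1) * x ≠ (c + 2) * c := fun x e => hqU x (dvd_of_eq e)
    by_cases hrc : r ∣ c
    · obtain ⟨z, hz, hzs⟩ := exists_size hS (x := (c + 1) * (c + 2)) (by simp) hB1
      refine ⟨z, hz, hzs ▸ hUne _, fun h => ?_⟩
      rw [hzs] at h
      have h2 := (Nat.prime_dvd_prime_iff_eq hr Nat.prime_two).1 (hc2 r hrc ((hr.dvd_mul.1 h).resolve_left hrq))
      exact hrp (h2.trans hp2.symm)
    · obtain ⟨z, hz, hzs⟩ := exists_size hS (x := (c + 1) * c) (by simp) (by nlinarith)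
      refine ⟨z, hz, hzs ▸ hUne _, fun h => ?_⟩
      rw [hzs] at h
      exact hrc ((hr.dvd_mul.1 h).resolve_left hrq)

/-- **The central quotient, for even `q`.** -/
theorem quotient_even {F : Type*} [Field F] [Fintype F] (h2 : 2 ∣ Fintype.card F) (h4 : 4 ≤ Fintype.card F)
    (h : Set.range (fun g : G => sz g) = Set.range (fun g : (Matrix.ProjectiveSpecialLinearGroup (Fin 2) F) =>
      (Subgroup.centralizer ({g} : Set (Matrix.ProjectiveSpecialLinearGroup (Fin 2) F))).index)) :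
    Nonempty (G ⧸ Subgroup.center G ≃* Matrix.ProjectiveSpecialLinearGroup (Fin 2) F) := by
  obtain ⟨p, hp⟩ := CharP.exists F
  obtain ⟨n, hpr, hn⟩ := FiniteField.card F p
  haveI : Fact p.Prime := ⟨hpr⟩
  have hp2 : p = 2 := ((Nat.prime_dvd_prime_iff_eq Nat.prime_two hpr).1
    (Nat.prime_two.dvd_of_dvd_pow (hn ▸ h2))).symm
  rw [Cfsg.Agent.S2507.result h2 h4, sq] at h
  exact (even_sizeHyp (G := G) n.pos hn hp2 h4 h).centHyp.psl_even hp2 F rfl

end CfsgLib.ClassSizePSL
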