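import Mathlib
import Cfsg.Agent.Lib.ClassSizePSL.Counting

/-!
# Splitting off the centre
-/

set_option autoImplicit false

open scoped Classical commutatorElement

namespace CfsgLib.ClassSizePSL.Split

variable {G : Type*} [Group G] [Finite G]

omit [Finite G] in
/-- If commuting modulo the centre means commuting, a subgroup with an abelian subgroup of index two
has no nontrivial central commutators. -/
theorem commutator_inf_center (hcomm : ∀ a b : G, (QuotientGroup.mk a : G ⧸ Subgroup.center G) * QuotientGroup.mk b =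
      QuotientGroup.mk b * QuotientGroup.mk a → Commute a b)
    (P C : Subgroup G) (hCP : C ≤ P) (hC : ∀ a ∈ C, ∀ b ∈ C, Commute a b)
    (hidx : C.relIndex P = 1 ∨ C.relIndex P = 2) :
    ⁅P, P⁆ ⊓ Subgroup.center G = ⊥ := by
  rcases hidx with h1 | h2
  · have hP : P ≤ C := Subgroup.relIndex_eq_one.1 h1
    rw [show ⁅P, P⁆ = ⊥ from le_bot_iff.1 (Subgroup.commutator_le.2 fun a ha b hb =>
      Subgroup.mem_bot.2 (commutatorElement_eq_one_iff_mul_comm.2 (hC a (hP ha) b (hP hb)).eq)), bot_inf_eq]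
  have htex : ∃ t ∈ P, t ∉ C := by
    by_contra h
    push Not at h
    rw [Subgroup.relIndex_eq_one.2 h] at h2
    omega
  obtain ⟨t, htP, htC⟩ := htex
  have hiff : ∀ a ∈ P, ∀ b ∈ P, a * b ∈ C ↔ (a ∈ C ↔ b ∈ C) := fun a ha b hb =>
    Subgroup.mul_mem_iff_of_index_two (H := C.subgroupOf P) h2 (a := ⟨a, ha⟩) (b := ⟨b, hb⟩)
  have hconjC : ∀ u ∈ P, ∀ c ∈ C, u * c * u⁻¹ ∈ C := by
    intro u hu c hc
    rw [hiff _ (mul_mem hu (hCP hc)) _ (inv_mem hu), hiff _ hu _ (hCP hc), inv_mem_iff]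
    exact ⟨fun h => h.2 hc, fun h => ⟨fun _ => hc, fun _ => h⟩⟩
  let φ : C →* G :=
    { toFun := fun c => (c : G) * (t * (c : G) * t⁻¹)⁻¹
      map_one' := by simp
      map_mul' := fun a b => by
        have hd : Commute ((t * (a : G) * t⁻¹)⁻¹) ((b : G) * (t * (b : G) * t⁻¹)⁻¹) :=
          hC _ (inv_mem (hconjC t htP _ a.2)) _ (mul_mem b.2 (inv_mem (hconjC t htP _ b.2)))
        rw [Subgroup.coe_mul]
        calc (a : G) * b * (t * ((a : G) * b) * t⁻¹)⁻¹
            = (a : G) * (((b : G) * (t * (b : G) * t⁻¹)⁻¹) * (t * (a : G) * t⁻¹)⁻¹) := by group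
          _ = (a : G) * ((t * (a : G) * t⁻¹)⁻¹ * ((b : G) * (t * (b : G) * t⁻¹)⁻¹)) := by rw [hd.eq]
          _ = _ := by group }
  have hφ : ∀ c (hc : c ∈ C), ∀ u ∈ P, u ∉ C → ⁅c, u⁆ ∈ φ.range := by
    intro c hc u hu huC
    have hd : t⁻¹ * u ∈ C := by rw [hiff _ (inv_mem htP) _ hu, inv_mem_iff]; exact ⟨fun h => absurd h htC, fun h => absurd h huC⟩
    refine ⟨⟨c, hc⟩, ?_⟩
    show c * (t * c * t⁻¹)⁻¹ = c * u * c⁻¹ * u⁻¹
    have hdc : Commute (t⁻¹ * u) c⁻¹ := hC _ hd _ (inv_mem hc)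
    calc c * (t * c * t⁻¹)⁻¹ = c * (t * (c⁻¹ * (t⁻¹ * u)) * u⁻¹) := by group
      _ = c * (t * ((t⁻¹ * u) * c⁻¹) * u⁻¹) := by rw [hdc.eq]
      _ = _ := by group
  have hle : ⁅P, P⁆ ≤ φ.range := Subgroup.commutator_le.2 fun a ha b hb => by
    by_cases haC : a ∈ C <;> by_cases hbC : b ∈ C
    · rw [commutatorElement_eq_one_iff_mul_comm.2 (hC a haC b hbC).eq]; exact one_mem _
    · exact hφ a haC b hb hbC
    · rw [← commutatorElement_inv]; exact inv_mem (hφ b hbC a ha haC)
    · have hd : a * b⁻¹ ∈ C := by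
        rw [hiff _ ha _ (inv_mem hb), inv_mem_iff]; exact ⟨fun h => absurd h haC, fun h => absurd h hbC⟩
      rw [show ⁅a, b⁆ = ⁅a * b⁻¹, b⁆ by simp only [commutatorElement_def]; group]
      exact hφ _ hd b hb hbC
  rw [eq_bot_iff]
  intro z hz
  obtain ⟨hzP, hzZ⟩ := hz
  obtain ⟨c, hc⟩ := hle hzP
  rw [Subgroup.mem_bot, ← hc]
  have hcc : Commute (c : G) t := by
    refine hcomm _ _ ?_
    have hz1 : (QuotientGroup.mk z : G ⧸ Subgroup.center G) = 1 := (QuotientGroup.eq_one_iff z).2 hzZ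
    rw [← hc, show φ c = (c : G) * (t * (c : G) * t⁻¹)⁻¹ from rfl] at hz1
    simp only [QuotientGroup.mk_mul, QuotientGroup.mk_inv, mul_inv_eq_one] at hz1
    exact eq_mul_inv_iff_mul_eq.1 hz1
  show (c : G) * (t * (c : G) * t⁻¹)⁻¹ = 1
  rw [mul_inv_eq_one, ← hcc.eq, mul_inv_cancel_right]

/-- A group whose commuting cosets commute splits over a centre with well-behaved simple quotient. -/
theorem split (hperf : commutator (G ⧸ Subgroup.center G) = ⊤)
    (hcomm : ∀ a b : G, (QuotientGroup.mk a : G ⧸ Subgroup.center G) * QuotientGroup.mk b =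
      QuotientGroup.mk b * QuotientGroup.mk a → Commute a b)
    (hsyl : ∀ r : ℕ, r.Prime → ∀ R : Sylow r (G ⧸ Subgroup.center G), ∃ C ≤ (R : Subgroup (G ⧸ Subgroup.center G)),
      IsMulCommutative C ∧ (C.relIndex (R : Subgroup (G ⧸ Subgroup.center G)) = 1 ∨ C.relIndex (R : Subgroup (G ⧸ Subgroup.center G)) = 2)) :
    commutator G ⊔ Subgroup.center G = ⊤ ∧ commutator G ⊓ Subgroup.center G = ⊥ := by
  set π := QuotientGroup.mk' (Subgroup.center G) with hπ
  have hsurj : Function.Surjective π := QuotientGroup.mk'_surjective _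
  have hmap : (commutator G).map π = ⊤ := by
    rw [commutator_def, Subgroup.map_commutator, ← MonoidHom.range_eq_map, MonoidHom.range_eq_top.2 hsurj,
      ← commutator_def, hperf]
  have hsup : commutator G ⊔ Subgroup.center G = ⊤ := by
    have := Subgroup.comap_map_eq π (commutator G)
    rw [hmap, Subgroup.comap_top, QuotientGroup.ker_mk'] at this
    exact this.symm
  refine ⟨hsup, ?_⟩
  have hN : commutator G ≤ ⁅commutator G, commutator G⁆ := by
    rw [commutator_def]
    refine Subgroup.commutator_le.2 fun a _ b _ => ?_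
    obtain ⟨n, hn, z, hz, rfl⟩ := Subgroup.mem_sup_of_normal_right.1 (hsup ▸ Subgroup.mem_top a)
    obtain ⟨n', hn', z', hz', rfl⟩ := Subgroup.mem_sup_of_normal_right.1 (hsup ▸ Subgroup.mem_top b)
    have e : ⁅n * z, n' * z'⁆ = ⁅n, n'⁆ := by
      simp only [commutatorElement_def]
      have c1 : ∀ w, z * w = w * z := fun w => (Subgroup.mem_center_iff.1 hz w).symm
      have c2 : ∀ w, z' * w = w * z' := fun w => (Subgroup.mem_center_iff.1 hz' w).symm
      calc n * z * (n' * z') * (n * z)⁻¹ * (n' * z')⁻¹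
          = n * (z * (n' * z')) * z⁻¹ * n⁻¹ * (z'⁻¹ * n'⁻¹) := by group
        _ = n * n' * (z' * n⁻¹) * z'⁻¹ * n'⁻¹ := by rw [c1]; group
        _ = _ := by rw [c2]; group
    rw [e]
    exact Subgroup.commutator_mem_commutator hn hn'
  have htopN : commutator (commutator G) = ⊤ := by
    apply Subgroup.map_injective (commutator G).subtype_injective
    rw [← MonoidHom.range_eq_map, Subgroup.range_subtype, Subgroup.map_subtype_commutator]
    exact le_antisymm (Subgroup.commutator_le_self _) hN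
  rw [eq_bot_iff]
  intro z hz
  obtain ⟨hzN, hzZ⟩ := hz
  rw [Subgroup.mem_bot]
  by_contra hz1
  obtain ⟨r, hr, hrd⟩ := Nat.exists_prime_and_dvd (n := orderOf z) (fun e => hz1 (orderOf_eq_one_iff.1 e))
  haveI := Fact.mk hr
  set w := z ^ (orderOf z / r)
  have hwo : orderOf w = r := by
    rw [orderOf_pow_of_dvd (Nat.div_pos (Nat.le_of_dvd (orderOf_pos z) hrd) hr.pos).ne' (Nat.div_dvd_of_dvd hrd),
      Nat.div_div_self hrd (orderOf_pos z).ne']
  have hwN : w ∈ commutator G := pow_mem hzN _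
  have hwZ : w ∈ Subgroup.center G := pow_mem hzZ _
  set v : commutator G := ⟨w, hwN⟩
  have hvc : ∀ y : commutator G, Commute y v := fun y => Subtype.ext (Subgroup.mem_center_iff.1 hwZ y)
  have hvo : orderOf v = r := by rw [← Subgroup.orderOf_coe]; exact hwo
  obtain ⟨R⟩ := (inferInstance : Nonempty (Sylow r (commutator G)))
  have hvR : v ∈ (R : Subgroup (commutator G)) :=
    mem_sylow_of_centralizes R ⟨1, by rw [hvo, pow_one]⟩ fun y _ => hvc y
  -- transfer into the abelianisation of `R`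
  have hkey : ∀ (k : ℕ) (g₀ : commutator G), g₀⁻¹ * v ^ k * g₀ ∈ (R : Subgroup (commutator G)) → g₀⁻¹ * v ^ k * g₀ = v ^ k :=
    fun k g₀ _ => by rw [mul_assoc, ← ((hvc g₀).pow_right k).eq, inv_mul_cancel_left]
  have htr := MonoidHom.transfer_eq_pow (ϕ := (Abelianization.of : (R : Subgroup (commutator G)) →* _)) v hkey
  have htriv : MonoidHom.transfer (Abelianization.of : (R : Subgroup (commutator G)) →* _) v = 1 := by
    have h1 : v ∈ commutator (commutator G) := htopN.symm ▸ Subgroup.mem_top v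
    exact Abelianization.commutator_subset_ker _ h1
  rw [htriv] at htr
  have hmemR : (⟨v ^ (R : Subgroup (commutator G)).index, pow_mem hvR _⟩ : (R : Subgroup (commutator G))) ∈
      commutator (R : Subgroup (commutator G)) := (QuotientGroup.eq_one_iff _).1 htr.symm
  have hmemR' : (⟨v, hvR⟩ : (R : Subgroup (commutator G))) ∈ commutator (R : Subgroup (commutator G)) := by
    obtain ⟨m, hm⟩ := exists_pow_eq_self_of_coprime (n := (R : Subgroup (commutator G)).index)
      (x := (⟨v, hvR⟩ : (R : Subgroup (commutator G))))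
      (by rw [Subgroup.orderOf_mk, hvo]; exact ((hr.coprime_iff_not_dvd).2 R.not_dvd_index).symm)
    rw [← hm]
    exact pow_mem hmemR m
  -- push into a subgroup with an abelian subgroup of index two
  set RG := (R : Subgroup (commutator G)).map (commutator G).subtype
  obtain ⟨S, hS⟩ := ((R.isPGroup'.map (commutator G).subtype).map π).exists_le_sylow
  obtain ⟨C, hCS, hC, hidx⟩ := hsyl r hr S
  have h0 := commutator_inf_center hcomm ((S : Subgroup (G ⧸ Subgroup.center G)).comap π) (C.comap π)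
    (Subgroup.comap_mono hCS)
    (fun a ha b hb => hcomm a b (congrArg Subtype.val (hC.is_comm.comm ⟨_, ha⟩ ⟨_, hb⟩)))
    (by rwa [Subgroup.relIndex_comap, Subgroup.map_comap_eq_self_of_surjective hsurj])
  have hwmem : w ∈ ⁅(S : Subgroup (G ⧸ Subgroup.center G)).comap π, (S : Subgroup (G ⧸ Subgroup.center G)).comap π⁆ := by
    have h1 : w ∈ ((commutator (R : Subgroup (commutator G))).map (R : Subgroup (commutator G)).subtype).map
        (commutator G).subtype := ⟨v, ⟨_, hmemR', rfl⟩, rfl⟩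
    rw [Subgroup.map_subtype_commutator, Subgroup.map_commutator] at h1
    exact Subgroup.commutator_mono (Subgroup.map_le_iff_le_comap.1 hS) (Subgroup.map_le_iff_le_comap.1 hS) h1
  have : w ∈ (⊥ : Subgroup G) := h0.le ⟨hwmem, hwZ⟩
  rw [Subgroup.mem_bot] at this
  rw [this, orderOf_one] at hwo
  exact hr.one_lt.ne hwo

end CfsgLib.ClassSizePSL.Split
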