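import Mathlib
import Cfsg.Agent.Lib.KnownC.PSL2ClassSizes
import Cfsg.Agent.Lib.Fusion.ThompsonTransfer
import Cfsg.Agent.Lib.Classical.SLBasic

/-!
# Sylow subgroups and involutions of `PSL₂(q)`
-/

set_option autoImplicit false
set_option linter.unusedSectionVars false

namespace CfsgLib.ClassSizePSL.Structure

open Matrix MulAction CfsgLib.Classical CfsgLib.Classical.Dickson CfsgLib.KnownC.PSL2Classes
open scoped MatrixGroups

variable {F : Type*} [Field F] [Fintype F] [DecidableEq F] (p : ℕ) [hp : Fact p.Prime] [CharP F p]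

local notation "PG" => ProjGenLinGroup (Fin 2) F
local notation "PS" => ProjectiveSpecialLinearGroup (Fin 2) F

theorem map_centralizer (z : PS) :
    (Subgroup.centralizer ({z} : Set PS)).map ProjectiveSpecialLinearGroup.toPGL =
      cen (ProjectiveSpecialLinearGroup.toPGL z) := by
  ext w
  rw [mem_cen, Subgroup.mem_map]
  constructor
  · rintro ⟨y, hy, rfl⟩
    refine ⟨range_toPGL_eq (F := F) ▸ ⟨y, rfl⟩, ?_⟩
    rw [← map_mul, Subgroup.mem_centralizer_singleton_iff.1 hy, map_mul]
  · rintro ⟨hw, hwc⟩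
    obtain ⟨y, rfl⟩ := exists_preimage hw
    exact ⟨y, Subgroup.mem_centralizer_singleton_iff.2
      (ProjectiveSpecialLinearGroup.toPGL_injective (by rw [map_mul, map_mul]; exact hwc)), rfl⟩

/-- The centraliser of a `p'`-element has a cyclic subgroup of index at most two. -/
theorem cen_cyclic (hq : 4 ≤ Fintype.card F) {z : PS} (hz : z ≠ 1) (hzp : ¬ p ∣ orderOf z) :
    ∃ T : Subgroup PS, IsCyclic T ∧ T.relIndex (Subgroup.centralizer ({z} : Set PS)) ≤ 2 ∧
      T.relIndex (Subgroup.centralizer ({z} : Set PS)) ≠ 0 := by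
  classical
  set ι := ProjectiveSpecialLinearGroup.toPGL (n := Fin 2) (R := F)
  have hι : Function.Injective ι := ProjectiveSpecialLinearGroup.toPGL_injective
  set c := ι z
  have hcS : c ∈ sln F := range_toPGL_eq (F := F) ▸ ⟨z, rfl⟩
  have hc : ¬ p ∣ orderOf c := by rwa [orderOf_injective ι hι z]
  have hc1 : c ≠ 1 := fun e => hz (hι (e.trans (map_one ι).symm))
  have hΓ : IsBig (sln F) := Or.inr rfl
  have hcp := pow_ne_one_of_semisimple hc hc1
  obtain ⟨-, -, -, -, -, -, hcard, -, -⟩ := pairStab_data p hΓ hq hc hc1 hcS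
  set T := torus p (sln F) c
  set N := pairStab p (sln F) c
  have hTN : T ≤ N := torus_le_pairStab hcp
  have hCN : cen c ≤ N := fun g hg => by
    obtain ⟨hgS, hgc⟩ := mem_cen.1 hg
    refine normalizing_mem_pairStab hgS ?_ ?_
    · rw [hgc, mul_inv_cancel_right]; exact Subgroup.mem_zpowers c
    · rw [mul_assoc, ← hgc, inv_mul_cancel_left]; exact Subgroup.mem_zpowers c
  haveI : IsCyclic T := isCyclic_torus hcp
  refine ⟨T.comap ι, isCyclic_of_injective (ι.subgroupComap T) (fun a b e => Subtype.ext (hι (congrArg Subtype.val e))), ?_, ?_⟩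
  · rw [Subgroup.relIndex_comap, map_centralizer]
    have h2 : T.relIndex N = 2 := by
      have := Subgroup.card_mul_index (T.subgroupOf N)
      rw [Nat.card_congr (Subgroup.subgroupOfEquivOfLe hTN).toEquiv, hcard, mul_comm 2] at this
      exact Nat.eq_of_mul_eq_mul_left Nat.card_pos this
    exact (Subgroup.relIndex_le_of_le_right hCN (Subgroup.index_ne_zero_of_finite)).trans h2.le
  · exact Subgroup.index_ne_zero_of_finite

include p in
/-- Sylow subgroups for the primes other than `p` have cyclic subgroups of index at most two. -/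
theorem sylow_cyclic (hq : 4 ≤ Fintype.card F) {r : ℕ} [Fact r.Prime] (hrp : r ≠ p) (R : Sylow r PS) :
    ∃ C ≤ (R : Subgroup PS), IsCyclic C ∧ (C.relIndex (R : Subgroup PS) = 1 ∨ C.relIndex (R : Subgroup PS) = 2) := by
  by_cases hR : (R : Subgroup PS) = ⊥
  · exact ⟨R, le_rfl, by rw [hR]; exact isCyclic_of_subsingleton, Or.inl (Subgroup.relIndex_self _)⟩
  haveI : Nontrivial (R : Subgroup PS) := (Subgroup.nontrivial_iff_ne_bot _).2 hR
  haveI := R.isPGroup'.center_nontrivial
  obtain ⟨⟨⟨z, hzR⟩, hzC⟩, hz1⟩ := exists_ne (1 : Subgroup.center (R : Subgroup PS))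
  have hz : z ≠ 1 := fun e => hz1 (Subtype.ext (Subtype.ext e))
  have hzp : ¬ p ∣ orderOf z := by
    intro hd
    obtain ⟨j, hj⟩ := IsPGroup.iff_orderOf.1 R.isPGroup' ⟨z, hzR⟩
    rw [Subgroup.orderOf_mk] at hj
    exact hrp ((Nat.prime_dvd_prime_iff_eq hp.out Fact.out).1 (hp.out.dvd_of_dvd_pow (hj ▸ hd))).symm
  have hle : (R : Subgroup PS) ≤ Subgroup.centralizer {z} := fun y hy =>
    Subgroup.mem_centralizer_singleton_iff.2 (congrArg Subtype.val (Subgroup.mem_center_iff.1 hzC ⟨y, hy⟩))
  obtain ⟨T, hT, h2, h0⟩ := cen_cyclic p hq hz hzp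
  refine ⟨T ⊓ R, inf_le_right,
    isCyclic_of_injective (Subgroup.inclusion (inf_le_left : T ⊓ (R : Subgroup PS) ≤ T)) (Subgroup.inclusion_injective _), ?_⟩
  rw [Subgroup.inf_relIndex_right]
  have h1 := (Subgroup.relIndex_le_of_le_right hle h0).trans h2
  have h3 : T.relIndex (R : Subgroup PS) ≠ 0 := Subgroup.index_ne_zero_of_finite
  omega

include p in
theorem not_commutative (hq : 4 ≤ Fintype.card F) : ¬ ∀ a b : PS, a * b = b * a := fun h => by
  obtain ⟨g, hg⟩ := size_nonsplit (F := F) p hq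
  rw [Subgroup.index_eq_one.2 ((Subgroup.eq_top_iff' _).2 fun x =>
    Subgroup.mem_centralizer_singleton_iff.2 (h x g))] at hg
  have : 4 * 1 ≤ Fintype.card F * (Fintype.card F - 1) := Nat.mul_le_mul hq (by omega)
  omega

include p in
theorem center_eq_bot (hq : 4 ≤ Fintype.card F) : Subgroup.center PS = ⊥ := by
  haveI := CfsgLib.Classical.psl_fin_isSimpleGroup (F := F) le_rfl (fun _ => hq)
  refine (Subgroup.Normal.eq_bot_or_eq_top (inferInstance : (Subgroup.center PS).Normal)).resolve_right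
    fun h => not_commutative p hq fun a b => ?_
  exact Subgroup.mem_center_iff.1 (h ▸ Subgroup.mem_top b) a

include p in
theorem commutator_eq_top (hq : 4 ≤ Fintype.card F) : commutator PS = ⊤ := by
  haveI := CfsgLib.Classical.psl_fin_isSimpleGroup (F := F) le_rfl (fun _ => hq)
  refine (Subgroup.Normal.eq_bot_or_eq_top (inferInstance : (commutator PS).Normal)).resolve_left
    fun h => not_commutative p hq fun a b => ?_
  rw [← commutatorElement_eq_one_iff_mul_comm, ← Subgroup.mem_bot, ← h]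
  exact Subgroup.commutator_mem_commutator (Subgroup.mem_top a) (Subgroup.mem_top b)

include p in
/-- All involutions are conjugate, for odd `q`. -/
theorem involutions_conj (hq : 4 ≤ Fintype.card F) (hp2 : p ≠ 2) {u v : PS}
    (hu : orderOf u = 2) (hv : orderOf v = 2) : IsConj u v := by
  haveI := CfsgLib.Classical.psl_fin_isSimpleGroup (F := F) le_rfl (fun _ => hq)
  haveI : Fact (Nat.Prime 2) := ⟨Nat.prime_two⟩
  obtain ⟨R⟩ := (inferInstance : Nonempty (Sylow 2 PS))
  obtain ⟨C, hCR, hC, hidx⟩ := sylow_cyclic p hq (r := 2) (Ne.symm hp2) R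
  -- two involutions of a cyclic group agree
  have huniq : ∀ a b : PS, a ∈ C → b ∈ C → orderOf a = 2 → orderOf b = 2 → a = b := by
    intro a b ha hb hao hbo
    haveI := hC
    classical
    haveI := Fintype.ofFinite C
    by_contra hne
    have hle := IsCyclic.card_pow_eq_one_le (α := C) (n := 2) two_pos
    have hsq : ∀ w : PS, ∀ hw : w ∈ C, orderOf w = 2 → (⟨w, hw⟩ : C) ^ 2 = 1 := fun w hw hwo =>
      orderOf_dvd_iff_pow_eq_one.1 (dvd_of_eq (by rw [Subgroup.orderOf_mk, hwo]))
    have hsub : ({1, ⟨a, ha⟩, ⟨b, hb⟩} : Finset C) ⊆ Finset.univ.filter fun w : C => w ^ 2 = 1 := by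
      intro w hw
      simp only [Finset.mem_insert, Finset.mem_singleton] at hw
      refine Finset.mem_filter.2 ⟨Finset.mem_univ _, ?_⟩
      rcases hw with rfl | rfl | rfl
      · exact one_pow _
      · exact hsq a ha hao
      · exact hsq b hb hbo
    have ha1 : a ≠ 1 := fun e => by rw [e, orderOf_one] at hao; omega
    have hb1 : b ≠ 1 := fun e => by rw [e, orderOf_one] at hbo; omega
    have h3 : ({1, ⟨a, ha⟩, ⟨b, hb⟩} : Finset C).card = 3 := Finset.card_eq_three.2
      ⟨1, ⟨a, ha⟩, ⟨b, hb⟩, fun e => ha1 (congrArg Subtype.val e).symm, fun e => hb1 (congrArg Subtype.val e).symm,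
        fun e => hne (congrArg Subtype.val e), rfl⟩
    have := (Finset.card_le_card hsub).trans hle
    omega
  have toC : ∀ w : PS, orderOf w = 2 → ∃ g : PS, g * w * g⁻¹ ∈ C := by
    intro w hw
    obtain ⟨R', hR'⟩ := (IsPGroup.of_card (p := 2) (n := 1) (by rw [Nat.card_zpowers, hw, pow_one]) :
      IsPGroup 2 (Subgroup.zpowers w)).exists_le_sylow
    obtain ⟨g, hg⟩ := MulAction.exists_smul_eq PS R' R
    have hw' : g * w * g⁻¹ ∈ (R : Subgroup PS) := by
      rw [← hg, Sylow.coe_subgroup_smul]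
      exact ⟨w, hR' (Subgroup.mem_zpowers w), rfl⟩
    have ho : (g * w * g⁻¹) ^ 2 = 1 := by
      rw [conj_pow, orderOf_dvd_iff_pow_eq_one.1 (dvd_of_eq hw), mul_one, mul_inv_cancel]
    rcases hidx with h1 | h2
    · exact ⟨g, Subgroup.relIndex_eq_one.1 h1 hw'⟩
    by_cases hmem : g * w * g⁻¹ ∈ C
    · exact ⟨g, hmem⟩
    rcases CfsgLib.Fusion.ThompsonTransfer.thompson_transfer R C hCR h2 _ ho hw' hmem with
      ⟨M, hMn, hMi, -⟩ | ⟨g', hg'⟩
    · exfalso
      rcases Subgroup.Normal.eq_bot_or_eq_top hMn with e | e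
      · rw [e, Subgroup.index_bot] at hMi
        exact not_commutative p hq fun a b => by
          haveI := isCyclic_of_prime_card (p := 2) hMi
          exact IsCyclic.isMulCommutative.is_comm.comm a b
      · rw [e, Subgroup.index_top] at hMi; omega
    · exact ⟨g' * g, by simpa [mul_assoc] using hg'⟩
  obtain ⟨g, hg⟩ := toC u hu
  obtain ⟨g', hg'⟩ := toC v hv
  have hconj : ∀ g w : PS, orderOf w = 2 → orderOf (g * w * g⁻¹) = 2 := fun g w hw =>
    (orderOf_injective (MulAut.conj g).toMonoidHom (MulAut.conj g).injective w).trans hw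
  exact (isConj_iff.2 ⟨g, rfl⟩).trans ((huniq _ _ hg hg' (hconj g u hu) (hconj g' v hv)) ▸ (isConj_iff.2 ⟨g', rfl⟩ : IsConj v (g' * v * g'⁻¹)).symm)

include p in
/-- Elements with the class size of an involution are involutions. -/
theorem orderOf_of_index (hq : 4 ≤ Fintype.card F) (hp2 : p ≠ 2) {z : PS}
    (hi : 2 * (Subgroup.centralizer ({z} : Set PS)).index = Fintype.card F * (Fintype.card F + 1) ∨
      2 * (Subgroup.centralizer ({z} : Set PS)).index = Fintype.card F * (Fintype.card F - 1)) :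
    orderOf z = 2 := by
  set i := (Subgroup.centralizer ({z} : Set PS)).index with hidef
  set c := ProjectiveSpecialLinearGroup.toPGL z with hc'
  have hcS : c ∈ sln F := range_toPGL_eq (F := F) ▸ ⟨z, rfl⟩
  have key := index_mul_cen z
  rw [← hidef, ← hc', q_factor] at key
  have hpdvd : p ∣ Fintype.card F := by
    obtain ⟨n, -, hn⟩ := FiniteField.card F p
    exact hn ▸ dvd_pow_self p n.ne_zero
  rw [← orderOf_injective _ ProjectiveSpecialLinearGroup.toPGL_injective z, ← hc']
  generalize hq' : Fintype.card F = q at hi key hq hpdvd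
  obtain ⟨d, rfl⟩ : ∃ d, q = d + 1 := ⟨q - 1, by omega⟩
  rw [Nat.add_sub_cancel] at hi key
  by_contra h2
  by_cases hc1 : c = 1
  · have hz : z = 1 := ProjectiveSpecialLinearGroup.toPGL_injective (hc1.trans (map_one _).symm)
    have hi1 : i = 1 := by
      rw [hidef, hz]
      exact Subgroup.index_eq_one.2 ((Subgroup.eq_top_iff' _).2 fun x =>
        Subgroup.mem_centralizer_singleton_iff.2 (by rw [mul_one, one_mul]))
    rcases hi with hi | hi <;> rw [hi1] at hi <;> nlinarith
  rcases pow_eq_one_or p c hcS with hcp | hc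
  · rw [card_cen_unip p hc1 hcp, hq', mul_assoc, mul_left_comm] at key
    have key' := Nat.eq_of_mul_eq_mul_left (by omega) key
    rcases dd_cases (F := F) with e | e <;> rw [e.1] at key' <;> rcases hi with hi | hi <;> nlinarith
  obtain ⟨T, -, hcard, hT⟩ := card_cen_semisimple p (hq'.symm ▸ hq) hc hc1 hcS
  rw [hcard, if_neg h2, one_mul, mul_assoc] at key
  rw [hq'] at hT
  rcases hT with ⟨-, hT⟩ | ⟨-, hT⟩
  · rw [hT, Nat.add_sub_cancel] at key
    have : i = (d + 1) * (d + 2) := Nat.eq_of_mul_eq_mul_right (show 0 < d by omega) (by rw [key]; ring)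
    rw [this] at hi
    rcases hi with hi | hi <;> nlinarith
  · rw [hT] at key
    have : i = (d + 1) * d := Nat.eq_of_mul_eq_mul_right (show 0 < d + 1 + 1 by omega) (by rw [key]; ring)
    rw [this] at hi
    rcases hi with hi | hi <;> nlinarith

end CfsgLib.ClassSizePSL.Structure
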