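import Mathlib
import Cfsg.Agent.Lib.ClassSizePSL.Main
import Cfsg.Agent.Lib.ClassSizePSL.Structure
import Cfsg.Agent.Lib.ClassSizePSL.Split

/-!
# The class sizes of `PSL₂(q)` force a direct product
-/

set_option autoImplicit false
set_option linter.unusedSectionVars false

open scoped Classical

namespace CfsgLib.ClassSizePSL.Direct

variable {G : Type*} [Group G] [Finite G]

local notation "Q" => G ⧸ Subgroup.center G

theorem index_cent_equiv {A B : Type*} [Group A] [Group B] (e : A ≃* B) (x : A) :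
    (Subgroup.centralizer ({x} : Set A)).index = (Subgroup.centralizer ({e x} : Set B)).index := by
  have h : (Subgroup.centralizer ({x} : Set A)).map e.toMonoidHom = Subgroup.centralizer ({e x} : Set B) := by
    ext y
    rw [Subgroup.mem_map, mem_cent_iff]
    constructor
    · rintro ⟨w, hw, rfl⟩
      exact (mem_cent_iff.1 hw).map e.toMonoidHom
    · intro hy
      refine ⟨e.symm y, mem_cent_iff.2 ?_, e.apply_symm_apply y⟩
      simpa using hy.map e.symm.toMonoidHom
  rw [← h, Subgroup.index_map_of_bijective (f := e.toMonoidHom) e.bijective]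

theorem sz_mul_center (g : G) {z : G} (hz : z ∈ Subgroup.center G) : sz (g * z) = sz g := by
  rw [sz, sz, show Subgroup.centralizer ({g * z} : Set G) = Subgroup.centralizer {g} from ?_]
  ext w
  have hw : Commute w z := Subgroup.mem_center_iff.1 hz w
  rw [mem_cent_iff, mem_cent_iff]
  exact ⟨fun h => by simpa using h.mul_right hw.inv_right, fun h => h.mul_right hw⟩

theorem sz_conj (g x : G) : sz (g * x * g⁻¹) = sz x :=
  (index_cent_equiv (MulAut.conj g) x).symm

/-- The centralisers of cosets are the images of centralisers. -/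
theorem commute_of_sz (hsz : ∀ X : G, sz X = (Subgroup.centralizer ({(QuotientGroup.mk X : Q)} : Set Q)).index)
    (a b : G) (h : (QuotientGroup.mk a : Q) * QuotientGroup.mk b = QuotientGroup.mk b * QuotientGroup.mk a) :
    Commute a b := by
  set H := (Subgroup.centralizer ({(QuotientGroup.mk b : Q)} : Set Q)).comap (QuotientGroup.mk' (Subgroup.center G))
  have hle : Subgroup.centralizer ({b} : Set G) ≤ H := fun g hg =>
    mem_cent_iff.2 ((mem_cent_iff.1 hg).map (QuotientGroup.mk' (Subgroup.center G)))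
  have hidx : H.index = (Subgroup.centralizer ({b} : Set G)).index := by
    rw [Subgroup.index_comap_of_surjective _ (QuotientGroup.mk'_surjective _)]
    exact (hsz b).symm
  have heq : H ≤ Subgroup.centralizer ({b} : Set G) := by
    rw [← Subgroup.relIndex_eq_one]
    have := Subgroup.relIndex_mul_index hle
    rw [hidx] at this
    exact Nat.eq_of_mul_eq_mul_right (Nat.pos_of_ne_zero Subgroup.index_ne_zero_of_finite) (this.trans (one_mul _).symm)
  exact mem_cent_iff.1 (heq (mem_cent_iff.2 h))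

theorem center_of_index_one (hZ : Subgroup.center Q = ⊥) {X : G}
    (h : (Subgroup.centralizer ({(QuotientGroup.mk X : Q)} : Set Q)).index = 1) : sz X = 1 := by
  rw [sz_eq_one_iff, ← QuotientGroup.eq_one_iff, ← Subgroup.mem_bot, ← hZ, Subgroup.mem_center_iff]
  exact fun w => (mem_cent_iff.1 ((Subgroup.index_eq_one.1 h).symm ▸ Subgroup.mem_top w)).eq

/-- Even `q = d + 1`: no class grows. -/
theorem sz_eq_even {d : ℕ} (hd : 3 ≤ d) (hev : 2 ∣ d + 1)
    (hS : Set.range (fun g : G => sz g) = {1, (d + 1) * d, (d + 2) * d, (d + 1) * (d + 2)})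
    (hQ : ∀ x : Q, (Subgroup.centralizer ({x} : Set Q)).index ∈
      ({1, (d + 1) * d, (d + 2) * d, (d + 1) * (d + 2)} : Set ℕ))
    (hZ : Subgroup.center Q = ⊥) (X : G) :
    sz X = (Subgroup.centralizer ({(QuotientGroup.mk X : Q)} : Set Q)).index := by
  obtain ⟨M, -, -, hsz⟩ := exists_twist X
  have hmem := size_mem hS X
  have hc := hQ (QuotientGroup.mk X)
  simp only [Set.mem_insert_iff, Set.mem_singleton_iff] at hmem hc
  have hcop : Nat.Coprime ((d + 2) * d) (d + 1) := by
    refine Nat.coprime_of_dvd fun k hk h1 h2 => hk.one_lt.ne' (Nat.dvd_one.1 ?_)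
    have h3 : k ∣ (d + 2) * d + 1 := by
      rw [show (d + 2) * d + 1 = (d + 1) * (d + 1) by ring]; exact h2.mul_right _
    exact (Nat.dvd_add_right h1).1 h3
  have hnd : ∀ x, d ∣ x → x ∣ d + 2 → False := fun x h1 h2 => by
    have := Nat.le_of_dvd two_pos ((Nat.dvd_add_right (dvd_refl d)).1 (h1.trans h2)); omega
  have hnd' : ¬ d + 2 ∣ d := fun h => by have := Nat.le_of_dvd (by omega) h; omega
  rcases hc with e | e | e | e <;> rw [e] at hsz ⊢
  · exact center_of_index_one hZ e
  all_goals rw [hsz] at hmem ⊢; generalize Nat.card M = m at hmem ⊢; rcases hmem with h | h | h | h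
  all_goals first | exact h | exfalso
  · exact absurd (Nat.eq_one_of_mul_eq_one_right h) (by nlinarith)
  · have h1 : d + 1 ∣ (d + 2) * d := ⟨d * m, by rw [← h]; ring⟩
    have := Nat.eq_one_of_dvd_coprimes hcop h1 dvd_rfl; omega
  · rw [mul_assoc] at h
    exact hnd _ ⟨m, rfl⟩ ⟨1, by rw [mul_one, Nat.eq_of_mul_eq_mul_left (by omega) h]⟩
  · exact absurd (Nat.eq_one_of_mul_eq_one_right h) (by nlinarith)
  · have h1 : (d + 2) * d ∣ (d + 1) * d := ⟨m, h.symm⟩
    exact hnd' ((hcop.dvd_of_dvd_mul_left h1) |> (dvd_mul_right _ _).trans)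
  · have h1 : (d + 2) * d ∣ (d + 1) * (d + 2) := ⟨m, h.symm⟩
    exact hnd _ (dvd_mul_left d (d + 2)) (hcop.dvd_of_dvd_mul_left h1)
  · exact absurd (Nat.eq_one_of_mul_eq_one_right h) (by nlinarith)
  · rw [mul_assoc] at h
    exact hnd' ⟨m, (Nat.eq_of_mul_eq_mul_left (by omega) h).symm⟩
  · have h1 : d + 1 ∣ (d + 2) * d := ⟨(d + 2) * m, by rw [← h]; ring⟩
    have := Nat.eq_one_of_dvd_coprimes hcop h1 dvd_rfl; omega

/-- Odd `q`: no class grows. -/
theorem sz_eq_odd {q o b : ℕ} (hq : 7 ≤ q) (hab : 2 * o * b + 1 = q * q) (ho : Odd o) (hb : 4 ∣ b)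
    (hd : 2 * o = b + 2 ∨ b = 2 * o + 2)
    (hS : Set.range (fun g : G => sz g) = {1, o * b, q * o, q * b, q * (2 * o)})
    (hQ : ∀ x : Q, (Subgroup.centralizer ({x} : Set Q)).index ∈
      ({1, o * b, q * o, q * b, q * (2 * o)} : Set ℕ))
    (hinv : ∀ x y : Q, (Subgroup.centralizer ({x} : Set Q)).index = q * o →
      (Subgroup.centralizer ({y} : Set Q)).index = q * o → IsConj x y)
    (hZ : Subgroup.center Q = ⊥) (X : G) :
    sz X = (Subgroup.centralizer ({(QuotientGroup.mk X : Q)} : Set Q)).index := by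
  have ho2 : ¬ 2 ∣ o := fun h => Nat.not_even_iff_odd.2 ho (even_iff_two_dvd.2 h)
  have ho3 : 3 ≤ o := by
    by_contra h
    obtain ⟨t, rfl⟩ := ho
    obtain rfl : t = 0 := by omega
    rcases hd with h' | h' <;> nlinarith
  have hb4 : 4 ≤ b := Nat.le_of_dvd (by rcases hd with h | h <;> omega) hb
  have hob : ¬ o ∣ b := by
    intro h
    have h1 : o ∣ 2 := by
      rcases hd with e | e
      · exact (Nat.dvd_add_right h).1 (e ▸ Dvd.intro_left 2 rfl)
      · exact (Nat.dvd_add_right (Dvd.intro_left 2 rfl : o ∣ 2 * o)).1 (e ▸ h)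
    have := Nat.le_of_dvd two_pos h1
    omega
  have hcop : Nat.Coprime (o * b) q := by
    refine Nat.coprime_of_dvd fun k hk h1 h2 => hk.one_lt.ne' (Nat.dvd_one.1 ?_)
    exact (Nat.dvd_add_right (h1.mul_left 2)).1 ((show 2 * (o * b) + 1 = q * q by rw [← hab]; ring) ▸ h2.mul_right q)
  have hU : ∀ x, 0 < x → x < o * b → ∀ m, o * b * m ≠ q * x := fun x h0 hx m h =>
    absurd (Nat.le_of_dvd h0 (hcop.dvd_of_dvd_mul_left ⟨m, h.symm⟩)) (by omega)
  have hqU : ∀ x, q * x ≠ o * b := fun x h => by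
    have := Nat.eq_one_of_dvd_coprimes hcop (⟨x, h.symm⟩ : q ∣ o * b) dvd_rfl
    omega
  have hlt : b < o * b ∧ 2 * o < o * b ∧ o < o * b := ⟨by nlinarith, by nlinarith, by nlinarith⟩
  -- a class of size other than `q o` does not grow
  have main : ∀ Y : G, sz Y = (Subgroup.centralizer ({(QuotientGroup.mk Y : Q)} : Set Q)).index ∨
      (Subgroup.centralizer ({(QuotientGroup.mk Y : Q)} : Set Q)).index = q * o ∧ sz Y ≠ q * o := by
    intro Y
    obtain ⟨M, -, -, hsz⟩ := exists_twist Y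
    have hmem := size_mem hS Y
    have hc := hQ (QuotientGroup.mk Y)
    simp only [Set.mem_insert_iff, Set.mem_singleton_iff] at hmem hc
    rcases hc with e | e | e | e | e <;> rw [e] at hsz ⊢
    · exact Or.inl (center_of_index_one hZ e)
    swap
    · by_cases h : sz Y = q * o
      · exact Or.inl h
      · exact Or.inr ⟨rfl, h⟩
    all_goals left; rw [hsz] at hmem ⊢; generalize Nat.card M = m at hmem ⊢; rcases hmem with h | h | h | h | h
    all_goals first | exact h | exfalso
    · exact absurd (Nat.eq_one_of_mul_eq_one_right h) (by nlinarith)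
    · exact hU o (by omega) hlt.2.2 m h
    · exact hU b (by omega) hlt.1 m h
    · exact hU (2 * o) (by omega) hlt.2.1 m h
    · exact absurd (Nat.eq_one_of_mul_eq_one_right h) (by nlinarith)
    · exact hqU (b * m) (by rw [← h]; ring)
    · rw [mul_assoc] at h
      exact ho2 ((((by norm_num : 2 ∣ 4).trans hb).mul_right m).trans
        (Nat.eq_of_mul_eq_mul_left (by omega) h).dvd)
    · rw [mul_assoc] at h
      exact ho2 ((Nat.mul_dvd_mul_iff_left two_pos).1
        (((show 2 * 2 ∣ b by simpa using hb).mul_right m).trans (Nat.eq_of_mul_eq_mul_left (by omega) h).dvd))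
    · exact absurd (Nat.eq_one_of_mul_eq_one_right h) (by nlinarith)
    · exact hqU (2 * o * m) (by rw [← h]; ring)
    · rw [mul_assoc] at h
      exact ho2 ⟨o * m, by rw [← mul_assoc]; exact (Nat.eq_of_mul_eq_mul_left (by omega) h).symm⟩
    · rw [mul_assoc] at h
      exact hob ⟨2 * m, by rw [← Nat.eq_of_mul_eq_mul_left (by omega) h]; ring⟩
  rcases main X with h | ⟨hX, hne⟩
  · exact h
  exfalso
  obtain ⟨X₀, -, hX₀⟩ := exists_size hS (x := q * o) (by simp) (by nlinarith)
  have hX₀' : (Subgroup.centralizer ({(QuotientGroup.mk X₀ : Q)} : Set Q)).index = q * o := by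
    rcases main X₀ with h | ⟨h, -⟩
    · rw [← h, hX₀]
    · exact h
  obtain ⟨g', hg⟩ := isConj_iff.1 (hinv _ _ hX₀' hX)
  obtain ⟨g, rfl⟩ := QuotientGroup.mk_surjective g'
  rw [← QuotientGroup.mk_inv, ← QuotientGroup.mk_mul, ← QuotientGroup.mk_mul, QuotientGroup.eq] at hg
  apply hne
  rw [show X = g * X₀ * g⁻¹ * ((g * X₀ * g⁻¹)⁻¹ * X) by group, sz_mul_center _ hg, sz_conj, hX₀]

/-- **The direct product.** -/
theorem main {F : Type*} [Field F] [Fintype F]
    (hq : (2 ∣ Fintype.card F ∧ 2 < Fintype.card F) ∨ (¬ 2 ∣ Fintype.card F ∧ 7 ≤ Fintype.card F))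
    (h : Set.range (fun g : G => sz g) = Set.range (fun g : (Matrix.ProjectiveSpecialLinearGroup (Fin 2) F) =>
      (Subgroup.centralizer ({g} : Set (Matrix.ProjectiveSpecialLinearGroup (Fin 2) F))).index)) :
    ∃ N A : Subgroup G, N.Normal ∧ A ≤ Subgroup.center G ∧ N ⊓ A = ⊥ ∧ N ⊔ A = ⊤ ∧
      Nonempty (N ≃* Matrix.ProjectiveSpecialLinearGroup (Fin 2) F) := by
  obtain ⟨p, hp⟩ := CharP.exists F
  obtain ⟨n, hpr, hn⟩ := FiniteField.card F p
  haveI : Fact p.Prime := ⟨hpr⟩
  have h4 : 4 ≤ Fintype.card F := by rcases hq with ⟨h2, h3⟩ | ⟨-, h7⟩ <;> omega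
  obtain ⟨e⟩ : Nonempty (Q ≃* Matrix.ProjectiveSpecialLinearGroup (Fin 2) F) := by
    rcases hq with ⟨h2, -⟩ | ⟨ho, h7⟩
    · exact quotient_even h2 h4 h
    · exact quotient_odd ho h7 h
  have hQ : ∀ x : Q, (Subgroup.centralizer ({x} : Set Q)).index ∈ Set.range (fun g : G => sz g) := fun x => by
    rw [h, index_cent_equiv e x]; exact Set.mem_range_self (e x)
  have hZ : Subgroup.center Q = ⊥ := by
    rw [eq_bot_iff]
    intro x hx
    have : e x ∈ Subgroup.center (Matrix.ProjectiveSpecialLinearGroup (Fin 2) F) := Subgroup.mem_center_iff.2 fun y => by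
      rw [← e.apply_symm_apply y, ← map_mul, ← map_mul, Subgroup.mem_center_iff.1 hx]
    rw [Structure.center_eq_bot p h4, Subgroup.mem_bot, ← map_one e] at this
    exact Subgroup.mem_bot.2 (e.injective this)
  have key : (∀ P : Sylow p Q, IsMulCommutative (P : Subgroup Q)) ∧
      ∀ X : G, sz X = (Subgroup.centralizer ({(QuotientGroup.mk X : Q)} : Set Q)).index := by
    rcases hq with ⟨h2, h3⟩ | ⟨hodd, h7⟩
    · have hp2 : p = 2 := ((Nat.prime_dvd_prime_iff_eq Nat.prime_two hpr).1
        (Nat.prime_two.dvd_of_dvd_pow (hn ▸ h2))).symm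
      have hS := h.trans (Cfsg.Agent.S2507.result h2 h4)
      have hyp := even_sizeHyp (G := G) n.pos hn hp2 h4 (by rw [hS, sq])
      refine ⟨hyp.centHyp.comm, ?_⟩
      obtain ⟨d, hd⟩ : ∃ d, Fintype.card F = d + 1 := ⟨Fintype.card F - 1, by omega⟩
      rw [hd, Nat.add_sub_cancel, show (d + 1) ^ 2 - 1 = (d + 2) * d by apply Nat.sub_eq_of_eq_add; ring] at hS
      exact fun X => sz_eq_even (d := d) (by omega) (hd ▸ h2) hS (hS ▸ hQ) hZ X
    · have hp2 : p ≠ 2 := fun e => hodd (by rw [hn, e]; exact dvd_pow_self 2 n.ne_zero)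
      obtain ⟨h1, h3⟩ := Cfsg.Agent.S2508.result hodd h7
      obtain ⟨q, hcard⟩ : ∃ q, Fintype.card F = q := ⟨_, rfl⟩
      rw [hcard] at hn hodd h7 h1 h3
      obtain ⟨o, b, hab, ho, hb, hd, hod, hS⟩ : ∃ o b, 2 * o * b + 1 = q * q ∧ Odd o ∧ 4 ∣ b ∧
          (2 * o = b + 2 ∨ b = 2 * o + 2) ∧ (2 * o = q + 1 ∨ 2 * o + 1 = q) ∧
          Set.range (fun g : G => sz g) = {1, o * b, q * o, q * b, q * (2 * o)} := by
        rcases (show q % 4 = 1 ∨ q % 4 = 3 by omega) with h4 | h4
        · obtain ⟨m, rfl⟩ : ∃ m, q = 4 * m + 1 := ⟨q / 4, by omega⟩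
          refine ⟨2 * m + 1, 4 * m, by ring, ⟨m, rfl⟩, ⟨m, rfl⟩, Or.inl (by ring), Or.inl (by ring), ?_⟩
          rw [h, h1 h4]
          have e1 : ((4 * m + 1) ^ 2 - 1) / 2 = (2 * m + 1) * (4 * m) := by
            rw [show (4 * m + 1) ^ 2 = 2 * ((2 * m + 1) * (4 * m)) + 1 by ring]; omega
          have e2 : (4 * m + 1) * (4 * m + 1 + 1) = 2 * ((4 * m + 1) * (2 * m + 1)) := by ring
          have e3 : (4 * m + 1) * (4 * m + 1 + 1) = (4 * m + 1) * (2 * (2 * m + 1)) := by ring
          rw [e1, show (4 * m + 1) - 1 = 4 * m from by omega,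
            show (4 * m + 1) * (4 * m + 1 + 1) / 2 = (4 * m + 1) * (2 * m + 1) by omega, e3]
        · obtain ⟨m, rfl⟩ : ∃ m, q = 4 * m + 3 := ⟨q / 4, by omega⟩
          refine ⟨2 * m + 1, 4 * (m + 1), by ring, ⟨m, rfl⟩, Dvd.intro _ rfl, Or.inr (by ring), Or.inr (by ring), ?_⟩
          rw [h, h3 h4]
          have e1 : ((4 * m + 3) ^ 2 - 1) / 2 = (2 * m + 1) * (4 * (m + 1)) := by
            rw [show (4 * m + 3) ^ 2 = 2 * ((2 * m + 1) * (4 * (m + 1))) + 1 by ring]; omega
          have e2 : (4 * m + 3) * (4 * m + 2) = 2 * ((4 * m + 3) * (2 * m + 1)) := by ring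
          rw [e1, show (4 * m + 3) - 1 = 4 * m + 2 from by omega,
            show (4 * m + 3) * (4 * m + 2) / 2 = (4 * m + 3) * (2 * m + 1) by omega,
            show (4 * m + 3 + 1) = 4 * (m + 1) by ring, show (4 * m + 2) = 2 * (2 * m + 1) by ring]
      obtain ⟨hyp, -⟩ := odd_sizeHyp (G := G) n.pos hn hp2 h7 (by omega) ho hb hd hS
      refine ⟨hyp.centHyp.comm, fun X => sz_eq_odd h7 hab ho hb hd hS (hS ▸ hQ) (fun x y hx hy => ?_) hZ X⟩
      have ord : ∀ z : Q, (Subgroup.centralizer ({z} : Set Q)).index = q * o → orderOf (e z) = 2 := fun z hz => by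
        refine Structure.orderOf_of_index p h4 hp2 ?_
        rw [← index_cent_equiv e z, hz, hcard]
        rcases hod with e' | e'
        · exact Or.inl (by rw [← e']; ring)
        · exact Or.inr (by rw [show q - 1 = 2 * o by omega]; ring)
      simpa using e.symm.toMonoidHom.map_isConj (Structure.involutions_conj p h4 hp2 (ord x hx) (ord y hy))
  have hperf : commutator Q = ⊤ := by
    have h1 : (commutator Q).map e.toMonoidHom = ⊤ := by
      rw [commutator_def, Subgroup.map_commutator, ← MonoidHom.range_eq_map,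
        MonoidHom.range_eq_top.2 e.surjective, ← commutator_def, Structure.commutator_eq_top p h4]
    exact Subgroup.map_injective (f := e.toMonoidHom) e.injective
      (h1.trans (Subgroup.map_top_of_surjective e.toMonoidHom e.surjective).symm)
  have hsyl : ∀ r : ℕ, r.Prime → ∀ R : Sylow r Q, ∃ C ≤ (R : Subgroup Q),
      IsMulCommutative C ∧ (C.relIndex (R : Subgroup Q) = 1 ∨ C.relIndex (R : Subgroup Q) = 2) := by
    intro r hr R
    haveI := Fact.mk hr
    by_cases hrp : r = p
    · subst hrp; exact ⟨R, le_rfl, key.1 R, Or.inl (Subgroup.relIndex_self _)⟩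
    obtain ⟨R', hR'⟩ := (R.isPGroup'.map e.toMonoidHom).exists_le_sylow
    obtain ⟨C, -, hC, hidx⟩ := Structure.sylow_cyclic p h4 hrp R'
    refine ⟨C.comap e.toMonoidHom ⊓ R, inf_le_right, ⟨⟨fun a b => ?_⟩⟩, ?_⟩
    · haveI := hC
      have := IsCyclic.isMulCommutative.is_comm.comm (⟨e a, a.2.1⟩ : C) ⟨e b, b.2.1⟩
      exact Subtype.ext (e.injective (by rw [Subgroup.coe_mul, Subgroup.coe_mul, map_mul, map_mul]; exact congrArg Subtype.val this))
    · rw [Subgroup.inf_relIndex_right, Subgroup.relIndex_comap]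
      have h1 : C.relIndex ((R : Subgroup Q).map e.toMonoidHom) ≤ C.relIndex R' :=
        Subgroup.relIndex_le_of_le_right hR' Subgroup.index_ne_zero_of_finite
      have h2 : C.relIndex ((R : Subgroup Q).map e.toMonoidHom) ≠ 0 := Subgroup.index_ne_zero_of_finite
      omega
  obtain ⟨hsup, hinf⟩ := Split.split hperf (commute_of_sz key.2) hsyl
  let f : commutator G →* Q := (QuotientGroup.mk' (Subgroup.center G)).comp (commutator G).subtype
  have hf : Function.Bijective f := by
    constructor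
    · rw [injective_iff_map_eq_one]
      intro a ha
      exact Subtype.ext (Subgroup.mem_bot.1 (hinf.le ⟨a.2, (QuotientGroup.eq_one_iff _).1 ha⟩))
    · intro x
      obtain ⟨g, rfl⟩ := QuotientGroup.mk_surjective x
      obtain ⟨a, ha, z, hz, rfl⟩ := Subgroup.mem_sup_of_normal_right.1 (hsup ▸ Subgroup.mem_top g)
      exact ⟨⟨a, ha⟩, ((QuotientGroup.mk_mul _ a z).trans (by rw [(QuotientGroup.eq_one_iff z).2 hz, mul_one]; rfl)).symm⟩
  exact ⟨commutator G, Subgroup.center G, inferInstance, le_rfl, hinf, hsup, ⟨(MulEquiv.ofBijective f hf).trans e⟩⟩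

end CfsgLib.ClassSizePSL.Direct
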